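import Cfsg.Agent.ZN.ChoiceBase

/-!
# NO-3L, case (A): families of axes, centres and root groups (text #16411 (3), helper69)

`M` normalises the abelian group `U`; for `i < k` a triple `A i` (axis), `Yc i` (centre), `E i` (root group) with
`Yc i ≤ Y ≤ A i ≤ U`, `E i ≤ M` centralises `A i`, `[u, E i] ≤ Yc i` for `u ∈ U`, with equality (as sets) for
`u ∈ U - A i`; `⋂ A i = Y = ⟨Yc i⟩`; the `A i` are conjugate in `M`.

* `YY F A` : the group generated by the centres of all `M`-conjugates of the triples with axis `A`;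
* `Fam.symm` : `YY A ≤ B` implies `YY B ≤ A`;
* `Fam.claim` : `W ≤ Y` normalised by `C_G(Z)`, `h ∈ M`: `Z^h ≤ Y` implies `W^h ≤ Y`.
-/

set_option autoImplicit false
set_option Elab.async false

namespace Cfsg.Agent.Omega.NOThreeL.ATwo

open Subgroup Cfsg.Agent.ZN Cfsg.Agent.ZN.ChoiceBase

universe u

variable {G : Type u} [Group G] {ι : Type*}

/-- The family. -/
structure Fam (M U Y : Subgroup G) (A Yc E : ι → Subgroup G) : Prop where
  YU : Y ≤ U
  MU : ∀ m ∈ M, ∀ u ∈ U, m * u * m⁻¹ ∈ U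
  AU : ∀ i, A i ≤ U
  YA : ∀ i, Y ≤ A i
  inter : ∀ u ∈ U, (∀ i, u ∈ A i) → u ∈ Y
  YcY : ∀ i, Yc i ≤ Y
  gen : ∀ R : Subgroup G, (∀ i, Yc i ≤ R) → Y ≤ R
  EM : ∀ i, E i ≤ M
  cent : ∀ i, ∀ a ∈ A i, ∀ t ∈ E i, a * t = t * a
  comm : ∀ i, ∀ u ∈ U, ∀ t ∈ E i, u * t * u⁻¹ * t⁻¹ ∈ Yc i
  full : ∀ i, ∀ u ∈ U, u ∉ A i → ∀ y ∈ Yc i, ∃ t ∈ E i, u * t * u⁻¹ * t⁻¹ = y
  trans : ∀ i j, ∃ s ∈ M, cj s (A i) = A j

/-- The centre of an axis. -/
def YY (M : Subgroup G) (A Yc : ι → Subgroup G) (B : Subgroup G) : Subgroup G :=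
  closure {y | ∃ i, ∃ x ∈ M, cj x (A i) = B ∧ y ∈ cj x (Yc i)}

section YY

variable {M : Subgroup G} {A Yc : ι → Subgroup G}

theorem le_YY {i : ι} {x : G} (hx : x ∈ M) {B : Subgroup G} (h : cj x (A i) = B) : cj x (Yc i) ≤ YY M A Yc B :=
  fun _ hy => subset_closure ⟨i, x, hx, h, hy⟩

theorem YY_le {B R : Subgroup G} (h : ∀ i, ∀ x ∈ M, cj x (A i) = B → cj x (Yc i) ≤ R) : YY M A Yc B ≤ R := by
  refine (closure_le _).2 ?_
  rintro y ⟨i, x, hx, he, hy⟩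
  exact h i x hx he hy

theorem cj_YY_le {g : G} (hg : g ∈ M) (B : Subgroup G) : cj g (YY M A Yc B) ≤ YY M A Yc (cj g B) := by
  rw [cj_le_iff]
  refine YY_le fun i x hx he => ?_
  have h1 : cj (g * x) (Yc i) ≤ YY M A Yc (cj g B) := le_YY (mul_mem hg hx) (by rw [← cj_cj, he])
  rw [← cj_le_iff, cj_cj]
  exact h1

theorem card_YY_le [Finite G] {g : G} (hg : g ∈ M) (B : Subgroup G) :
    Nat.card (YY M A Yc B) ≤ Nat.card (YY M A Yc (cj g B)) := by
  rw [← card_cj g (YY M A Yc B)]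
  exact Nat.card_le_card_of_injective _ (Subgroup.inclusion_injective (cj_YY_le hg B))

end YY

namespace Fam

variable {M U Y : Subgroup G} {A Yc E : ι → Subgroup G} (h : Fam M U Y A Yc E)
include h

theorem YY_le_self (B : Subgroup G) : YY M A Yc B ≤ B := by
  refine YY_le fun i x _ he => ?_
  rw [← he]
  exact cj_mono x ((h.YcY i).trans (h.YA i))

/-- Elements of conjugate root groups. -/
theorem comm' {x : G} (hx : x ∈ M) {i : ι} {u t : G} (hu : u ∈ U) (ht : t ∈ cj x (E i)) :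
    u * t * u⁻¹ * t⁻¹ ∈ cj x (Yc i) := by
  rw [mem_cj] at ht ⊢
  have hu' : x⁻¹ * u * x ∈ U := by
    have := h.MU x⁻¹ (inv_mem hx) u hu
    rwa [inv_inv] at this
  have h1 := h.comm i _ hu' _ ht
  have e : x⁻¹ * (u * t * u⁻¹ * t⁻¹) * x =
    x⁻¹ * u * x * (x⁻¹ * t * x) * (x⁻¹ * u * x)⁻¹ * (x⁻¹ * t * x)⁻¹ := by group
  rwa [e]

theorem full' {x : G} (hx : x ∈ M) {i : ι} {u y : G} (hu : u ∈ U) (huA : u ∉ cj x (A i)) (hy : y ∈ cj x (Yc i)) :
    ∃ t ∈ cj x (E i), u * t * u⁻¹ * t⁻¹ = y := by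
  rw [mem_cj] at huA hy
  have hu' : x⁻¹ * u * x ∈ U := by
    have := h.MU x⁻¹ (inv_mem hx) u hu
    rwa [inv_inv] at this
  obtain ⟨t, ht, he⟩ := h.full i _ hu' huA _ hy
  refine ⟨x * t * x⁻¹, ?_, ?_⟩
  · rw [mem_cj]
    have e : x⁻¹ * (x * t * x⁻¹) * x = t := by group
    rwa [e]
  · calc u * (x * t * x⁻¹) * u⁻¹ * (x * t * x⁻¹)⁻¹ =
        x * (x⁻¹ * u * x * t * (x⁻¹ * u * x)⁻¹ * t⁻¹) * x⁻¹ := by group
      _ = y := by rw [he]; group

theorem cent' {x : G} {i : ι} {a t : G} (ha : a ∈ cj x (A i)) (ht : t ∈ cj x (E i)) : a * t = t * a := by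
  rw [mem_cj] at ha ht
  have h1 := h.cent i _ ha _ ht
  calc a * t = x * ((x⁻¹ * a * x) * (x⁻¹ * t * x)) * x⁻¹ := by group
    _ = x * ((x⁻¹ * t * x) * (x⁻¹ * a * x)) * x⁻¹ := by rw [h1]
    _ = t * a := by group

theorem EM' {x : G} (hx : x ∈ M) {i : ι} {t : G} (ht : t ∈ cj x (E i)) : t ∈ M := by
  rw [mem_cj] at ht
  have e : t = x * (x⁻¹ * t * x) * x⁻¹ := by group
  rw [e]
  exact mul_mem (mul_mem hx (h.EM i ht)) (inv_mem hx)

/-- A root element whose centre is in `B` normalises `B` and `YY B`. -/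
theorem cj_eq {t : G} {B : Subgroup G} (hB : B ≤ U) (hc : ∀ u ∈ U, u * t * u⁻¹ * t⁻¹ ∈ B) : cj t B ≤ B := by
  intro b hb
  rw [mem_cj] at hb
  have h1 := hc _ (hB hb)
  -- `u = t⁻¹ b t`, `[u, t] = u b⁻¹`
  have e : t⁻¹ * b * t * t * (t⁻¹ * b * t)⁻¹ * t⁻¹ = t⁻¹ * b * t * b⁻¹ := by group
  rw [e] at h1
  have h2 := mul_mem (inv_mem h1) hb
  have e2 : (t⁻¹ * b * t * b⁻¹)⁻¹ * (t⁻¹ * b * t) = b := by group
  rwa [e2] at h2

variable [Finite G]

/-- **Symmetry.** -/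
theorem symm {g g' : G} (hg : g ∈ M) (hg' : g' ∈ M) {i j : ι}
    (hle : YY M A Yc (cj g (A i)) ≤ cj g' (A j)) : YY M A Yc (cj g' (A j)) ≤ cj g (A i) := by
  set a := cj g (A i) with ha
  set b := cj g' (A j) with hb
  have hbU : b ≤ U := by
    intro x hx
    rw [hb, mem_cj] at hx
    have h1 := h.MU g' hg' _ (h.AU j hx)
    have e : g' * (g'⁻¹ * x * g') * g'⁻¹ = x := by group
    rwa [e] at h1
  by_contra hcon
  obtain ⟨f, hf, hfa⟩ := SetLike.not_le_iff_exists.mp hcon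
  have hfU : f ∈ U := hbU (h.YY_le_self b hf)
  -- every root group with axis `a` normalises `YY b`
  have key : YY M A Yc a ≤ YY M A Yc b := by
    refine YY_le fun l x hx he => ?_
    intro y hy
    obtain ⟨t, ht, hty⟩ := h.full' hx hfU (by rw [he]; exact hfa) hy
    have htM := h.EM' hx ht
    have hcen : cj x (Yc l) ≤ b := (le_YY hx he).trans hle
    have h1 : cj t b ≤ b := h.cj_eq hbU fun u hu => hcen (h.comm' hx hu ht)
    have h2 : cj t b = b := Subgroup.eq_of_le_of_card_ge h1 (card_cj t b).ge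
    have h3 : cj t (YY M A Yc b) ≤ YY M A Yc b := by
      have := cj_YY_le (A := A) (Yc := Yc) htM b
      rwa [h2] at this
    have h4 : t * f⁻¹ * t⁻¹ ∈ YY M A Yc b := h3 (by
      rw [mem_cj]
      have e : t⁻¹ * (t * f⁻¹ * t⁻¹) * t = f⁻¹ := by group
      rw [e]
      exact inv_mem hf)
    rw [← hty]
    have e : f * t * f⁻¹ * t⁻¹ = f * (t * f⁻¹ * t⁻¹) := by group
    rw [e]
    exact mul_mem hf h4
  -- the orders are equal
  obtain ⟨s, hs, hse⟩ := h.trans i j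
  have hab : cj (g' * s * g⁻¹) a = b := by
    rw [ha, hb, cj_cj, ← hse, cj_cj]
    congr 1
    group
  have h5 : Nat.card (YY M A Yc b) ≤ Nat.card (YY M A Yc a) := by
    have hba : cj (g' * s * g⁻¹)⁻¹ b = a := by rw [← hab, cj_inv_cj]
    have := card_YY_le (A := A) (Yc := Yc) (inv_mem (mul_mem (mul_mem hg' hs) (inv_mem hg))) b
    rwa [hba] at this
  have h6 := Subgroup.eq_of_le_of_card_ge key h5
  rw [← h6] at hf
  exact hfa (h.YY_le_self a hf)

/-- **Claim.** -/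
theorem claim {W Z : Subgroup G} (hW : W ≤ Y) (hWn : centralizer (Z : Set G) ≤ normalizer (W : Set G)) {g : G}
    (hg : g ∈ M) (hZ : cj g Z ≤ Y) : cj g W ≤ Y := by
  intro w hw
  have hwY : w ∈ cj g Y := cj_mono g hW hw
  have hwU : w ∈ U := by
    have h1 := h.MU g hg _ (h.YU (mem_cj.1 hwY))
    have e : g * (g⁻¹ * w * g) * g⁻¹ = w := by group
    rwa [e] at h1
  refine h.inter w hwU fun j => ?_
  by_contra hwj
  -- `YY (A j) ≤ W^g`
  have h1 : YY M A Yc (A j) ≤ cj g W := by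
    refine YY_le fun i x hx he => ?_
    intro y hy
    obtain ⟨t, ht, hty⟩ := h.full' hx hwU (by rw [he]; exact hwj) hy
    have htZ : t ∈ centralizer ((cj g Z : Subgroup G) : Set G) := by
      rw [mem_centralizer_iff]
      intro a ha
      have ha' : a ∈ cj x (A i) := by
        rw [he]
        exact h.YA j (hZ ha)
      exact h.cent' ha' ht
    have htn : g⁻¹ * t * g ∈ normalizer (W : Set G) := by
      refine hWn ?_
      rw [← cj_centralizer, mem_cj] at htZ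
      exact htZ
    have hw' := mem_cj.1 hw
    have h2 := (mem_normalizer_iff.1 htn _).1 (inv_mem hw')
    rw [← hty, mem_cj]
    have h3 := mul_mem hw' h2
    have e : g⁻¹ * w * g * (g⁻¹ * t * g * (g⁻¹ * w * g)⁻¹ * (g⁻¹ * t * g)⁻¹) =
      g⁻¹ * (w * t * w⁻¹ * t⁻¹) * g := by group
    rwa [e] at h3
  have h2 : ∀ l, cj g (Yc l) ≤ A j := by
    intro l
    have h3 : YY M A Yc (cj 1 (A j)) ≤ cj g (A l) := by
      rw [cj_one]
      exact h1.trans (cj_mono g (hW.trans (h.YA l)))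
    have h4 := h.symm (one_mem M) hg h3
    rw [cj_one] at h4
    exact (le_YY hg rfl).trans h4
  have h3 : Y ≤ cj g⁻¹ (A j) := h.gen _ fun l => by
    rw [← cj_le_iff]
    exact h2 l
  rw [← cj_le_iff] at h3
  exact hwj (h3 hwY)

end Fam

end Cfsg.Agent.Omega.NOThreeL.ATwo
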