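import Mathlib

/-!
# NO-3L A2 (text #14933 (2), helper850): the pair `U`, `U'` over `D = C_G(V')`

`U`, `U'` abelian of exponent 2, `U ∩ U' = 1`, `D` normalises `U`, `U'`, which normalise `D`, `a ∈ U`, `b ∈ U'`,
`ρ = a b`, `U^ρ = U'`. `Y = U ∩ D`, `Y' = U' ∩ D`, `pi u y = [u, y^ρ]` for `u ∈ U`, `y ∈ Y`.

* `Co.comm` : `[Y, Y'] = 1`; `pi_mem`, `pi_mul`, `mul_pi` : `pi` is a bimultiplicative map `U × Y → Y`, trivial on
  `Y × Y`;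
* `Co.pi_a` : `pi a y = y`;
* `Co.key` : `pi u (pi v (pi u y)) = 1` if `[u, v^ρ] ∈ D`;
* `Co.idem` : `pi u (pi u y) = pi u y` if moreover `u v ∈ a D` and `[v, u^ρ] ∈ D`;
* `Co.orth` : `pi u (pi v y) = 1` if `pi u`, `pi v`, `pi (u v)` are idempotent and `[u, v^ρ] ∈ D`.
-/

set_option autoImplicit false
set_option Elab.async false

namespace Cfsg.Agent.Omega.NOThreeL.ATwo

open Subgroup

universe u

variable {G : Type u} [Group G]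

/-- The pair `U`, `U'` over `D`. -/
structure Co (U U' D : Subgroup G) (a b : G) : Prop where
  aU : a ∈ U
  bU : b ∈ U'
  ab : ∀ u ∈ U, ∀ v ∈ U, u * v = v * u
  ab' : ∀ u ∈ U', ∀ v ∈ U', u * v = v * u
  sq : ∀ u ∈ U, u * u = 1
  inf : ∀ x, x ∈ U → x ∈ U' → x = 1
  DU : ∀ d ∈ D, ∀ u ∈ U, d * u * d⁻¹ ∈ U
  DU' : ∀ d ∈ D, ∀ u ∈ U', d * u * d⁻¹ ∈ U'
  UD : ∀ u ∈ U, ∀ d ∈ D, u * d * u⁻¹ ∈ D
  UD' : ∀ u ∈ U', ∀ d ∈ D, u * d * u⁻¹ ∈ D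
  rho : ∀ u ∈ U, a * b * u * (a * b)⁻¹ ∈ U'

/-- `[u, y^ρ]` -/
def pi (a b u y : G) : G := u * (a * b * y * (a * b)⁻¹) * u⁻¹ * (a * b * y * (a * b)⁻¹)⁻¹

namespace Co

variable {U U' D : Subgroup G} {a b : G} (h : Co U U' D a b)
include h

theorem sq' {u : G} (hu : u ∈ U) : u⁻¹ = u := inv_eq_of_mul_eq_one_left (h.sq u hu)

theorem rho_D {d : G} (hd : d ∈ D) : a * b * d * (a * b)⁻¹ ∈ D := by
  have e : a * b * d * (a * b)⁻¹ = a * (b * d * b⁻¹) * a⁻¹ := by group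
  rw [e]
  exact h.UD a h.aU _ (h.UD' b h.bU d hd)

/-- `y^ρ ∈ Y'` -/
theorem rho_Y {y : G} (hy : y ∈ U) (hyD : y ∈ D) :
    a * b * y * (a * b)⁻¹ ∈ U' ∧ a * b * y * (a * b)⁻¹ ∈ D := ⟨h.rho y hy, h.rho_D hyD⟩

/-- `[Y, Y'] = 1` -/
theorem comm {y x : G} (hy : y ∈ U) (hyD : y ∈ D) (hx : x ∈ U') (hxD : x ∈ D) : y * x = x * y := by
  have h1 : y * x * y⁻¹ * x⁻¹ = 1 := by
    refine h.inf _ ?_ ?_
    · have e : y * x * y⁻¹ * x⁻¹ = y * (x * y⁻¹ * x⁻¹) := by group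
      rw [e]
      exact mul_mem hy (h.DU x hxD _ (inv_mem hy))
    · exact mul_mem (h.DU' y hyD x hx) (inv_mem hx)
  calc y * x = y * x * y⁻¹ * x⁻¹ * x * y := by group
    _ = x * y := by rw [h1, one_mul]

/-- `[U, Y'] ≤ Y` -/
theorem comm_mem {u x : G} (hu : u ∈ U) (hx : x ∈ D) :
    u * x * u⁻¹ * x⁻¹ ∈ U ∧ u * x * u⁻¹ * x⁻¹ ∈ D := by
  constructor
  · have e : u * x * u⁻¹ * x⁻¹ = u * (x * u⁻¹ * x⁻¹) := by group
    rw [e]
    exact mul_mem hu (h.DU x hx _ (inv_mem hu))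
  · exact mul_mem (h.UD u hu x hx) (inv_mem hx)

theorem pi_mem {u y : G} (hu : u ∈ U) (hyD : y ∈ D) :
    pi a b u y ∈ U ∧ pi a b u y ∈ D := h.comm_mem hu (h.rho_D hyD)

/-- `pi` is multiplicative in the second variable. -/
theorem pi_mul {u x y : G} (hu : u ∈ U) (hx : x ∈ U) (hxD : x ∈ D) (hy : y ∈ U) (hyD : y ∈ D) :
    pi a b u (x * y) = pi a b u x * pi a b u y := by
  obtain ⟨h1, h2⟩ := h.rho_Y hx hxD
  have h3 := h.pi_mem hu hyD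
  have h4 := h.comm h3.1 h3.2 h1 h2
  unfold pi at h4 ⊢
  set X := a * b * x * (a * b)⁻¹ with hX
  set Z := a * b * y * (a * b)⁻¹ with hZ
  have e : a * b * (x * y) * (a * b)⁻¹ = X * Z := by rw [hX, hZ]; group
  rw [e]
  calc u * (X * Z) * u⁻¹ * (X * Z)⁻¹ = u * X * u⁻¹ * (u * Z * u⁻¹ * Z⁻¹) * X⁻¹ := by group
    _ = u * X * u⁻¹ * ((u * Z * u⁻¹ * Z⁻¹ * X) * X⁻¹) * X⁻¹ := by group
    _ = u * X * u⁻¹ * ((X * (u * Z * u⁻¹ * Z⁻¹)) * X⁻¹) * X⁻¹ := by rw [h4]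
    _ = u * X * u⁻¹ * (X * (u * Z * u⁻¹ * Z⁻¹) * X⁻¹) * X⁻¹ := by group
    _ = u * X * u⁻¹ * X⁻¹ * (u * Z * u⁻¹ * Z⁻¹) := by
        have h5 : X * (u * Z * u⁻¹ * Z⁻¹) * X⁻¹ = X⁻¹ * (u * Z * u⁻¹ * Z⁻¹) * X := by
          have h6 : X * (u * Z * u⁻¹ * Z⁻¹) * X⁻¹ = u * Z * u⁻¹ * Z⁻¹ := by
            rw [← h4]; group
          have h7 : X⁻¹ * (u * Z * u⁻¹ * Z⁻¹) * X = u * Z * u⁻¹ * Z⁻¹ := by
            rw [mul_assoc, h4]; group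
          rw [h6, h7]
        rw [h5]; group

/-- `pi` is multiplicative in the first variable. -/
theorem mul_pi {u v y : G} (hu : u ∈ U) (hv : v ∈ U) (hyD : y ∈ D) :
    pi a b (u * v) y = pi a b u y * pi a b v y := by
  have h1 := (h.pi_mem hv hyD).1
  have h2 := h.ab u hu _ h1
  have h3 := h.ab _ (h.pi_mem hu hyD).1 _ h1
  rw [h3]
  unfold pi at h2 ⊢
  set Z := a * b * y * (a * b)⁻¹ with hZ
  calc u * v * Z * (u * v)⁻¹ * Z⁻¹ = u * (v * Z * v⁻¹ * Z⁻¹) * (Z * u⁻¹ * Z⁻¹) := by group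
    _ = (v * Z * v⁻¹ * Z⁻¹) * u * (Z * u⁻¹ * Z⁻¹) := by rw [h2]
    _ = v * Z * v⁻¹ * Z⁻¹ * (u * Z * u⁻¹ * Z⁻¹) := by group

/-- `pi` is trivial on `Y × Y`. -/
theorem pi_eq_one {u y : G} (hu : u ∈ U) (huD : u ∈ D) (hy : y ∈ U) (hyD : y ∈ D) : pi a b u y = 1 := by
  obtain ⟨h1, h2⟩ := h.rho_Y hy hyD
  unfold pi
  rw [h.comm hu huD h1 h2]
  group

theorem pi_one {u : G} : pi a b u 1 = 1 := by
  unfold pi
  group

theorem pi_congr {u v y : G} (hu : u ∈ U) (hv : v ∈ U) (huv : u * v⁻¹ ∈ D) (hy : y ∈ U) (hyD : y ∈ D) :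
    pi a b u y = pi a b v y := by
  have h1 : u = u * v⁻¹ * v := by group
  rw [h1, h.mul_pi (mul_mem hu (inv_mem hv)) hv hyD,
    h.pi_eq_one (mul_mem hu (inv_mem hv)) huv hy hyD, one_mul]

/-- `pi a y = y` -/
theorem pi_a {y : G} (hy : y ∈ U) (hyD : y ∈ D) : pi a b a y = y := by
  obtain ⟨h1, h2⟩ := h.rho_Y hy hyD
  -- `t = [b, y]`
  have ht : b * y * b⁻¹ * y⁻¹ ∈ U' := by
    have e : b * y * b⁻¹ * y⁻¹ = b * (y * b⁻¹ * y⁻¹) := by group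
    rw [e]
    exact mul_mem h.bU (h.DU' y hyD _ (inv_mem h.bU))
  have htD : b * y * b⁻¹ * y⁻¹ ∈ D := mul_mem (h.UD' b h.bU y hyD) (inv_mem hyD)
  set t := b * y * b⁻¹ * y⁻¹ with hte
  obtain ⟨hk, hkD⟩ := h.comm_mem h.aU htD
  set κ := a * t * a⁻¹ * t⁻¹ with hκ
  have e1 : a * b * y * (a * b)⁻¹ = κ * y * t := by
    have h3 := h.ab a h.aU y hy
    have h4 := h.comm hy hyD ht htD
    calc a * b * y * (a * b)⁻¹ = a * (b * y * b⁻¹ * y⁻¹) * y * a⁻¹ := by group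
      _ = a * t * (y * a⁻¹) := by rw [← hte]; group
      _ = a * t * (a⁻¹ * y) := by
          have h5 : y * a⁻¹ = a⁻¹ * y := by
            calc y * a⁻¹ = a⁻¹ * (a * y) * a⁻¹ := by group
              _ = a⁻¹ * (y * a) * a⁻¹ := by rw [h3]
              _ = a⁻¹ * y := by group
          rw [h5]
      _ = a * t * a⁻¹ * t⁻¹ * (t * y) := by group
      _ = κ * (y * t) := by rw [← hκ, h4]
      _ = κ * y * t := by group
  have e2 : κ * y = 1 := by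
    refine h.inf _ (mul_mem hk hy) ?_
    have e3 : κ * y = a * b * y * (a * b)⁻¹ * t⁻¹ := by rw [e1]; group
    rw [e3]
    exact mul_mem h1 (inv_mem ht)
  have e4 : κ = y := by
    have h5 : κ = y⁻¹ := mul_eq_one_iff_eq_inv.1 e2
    rw [h5, h.sq' hy]
  have e5 : a * b * y * (a * b)⁻¹ = t := by rw [e1, e2, one_mul]
  unfold pi
  rw [e5]
  exact e4

/-- `[v^ρ, y] = (pi v y)^ρ` -/
theorem rho_conj {v y : G} (hv : v ∈ U) (hy : y ∈ U) (hyD : y ∈ D) :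
    (a * b * v * (a * b)⁻¹) * y * (a * b * v * (a * b)⁻¹)⁻¹ =
      a * b * pi a b v y * (a * b)⁻¹ * y := by
  obtain ⟨h1, h2⟩ := h.rho_Y hy hyD
  have h3 := h.pi_a hy hyD
  have h4 := h.rho v hv
  have h5 := h.ab' _ h4 _ h1
  have h6 := h.ab' _ h1 _ h.bU
  have h7 := h.comm hy hyD h1 h2
  set ρ := a * b with hρ
  set Z := ρ * y * ρ⁻¹ with hZ
  set v' := ρ * v * ρ⁻¹ with hv'
  -- `Z^ρ = y Z`
  have e1 : ρ * Z * ρ⁻¹ = y * Z := by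
    have e2 : ρ * Z * ρ⁻¹ = a * Z * a⁻¹ := by
      rw [hρ]
      calc a * b * Z * (a * b)⁻¹ = a * (b * Z) * b⁻¹ * a⁻¹ := by group
        _ = a * (Z * b) * b⁻¹ * a⁻¹ := by rw [h6]
        _ = a * Z * a⁻¹ := by group
    rw [e2]
    have e3 : a * Z * a⁻¹ = pi a b a y * Z := by
      unfold pi
      rw [← hρ, ← hZ]
      group
    rw [e3, h3]
  have e4 : pi a b v y = v * Z * v⁻¹ * Z⁻¹ := rfl
  have e5 : v' * (y * Z) * v'⁻¹ = ρ * pi a b v y * ρ⁻¹ * (y * Z) := by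
    rw [← e1, e4, hv']
    group
  calc v' * y * v'⁻¹ = v' * (y * Z) * v'⁻¹ * (v' * Z * v'⁻¹)⁻¹ := by group
    _ = v' * (y * Z) * v'⁻¹ * Z⁻¹ := by
        have e6 : v' * Z * v'⁻¹ = Z := by rw [h5]; group
        rw [e6]
    _ = ρ * pi a b v y * ρ⁻¹ * y := by rw [e5]; group

/-- The relation from `[u, v^ρ] ∈ D`. -/
theorem key {u v y : G} (hu : u ∈ U) (hv : v ∈ U)
    (hd : u * (a * b * v * (a * b)⁻¹) * u⁻¹ * (a * b * v * (a * b)⁻¹)⁻¹ ∈ D)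
    (hy : y ∈ U) (hyD : y ∈ D) : pi a b u (pi a b v (pi a b u y)) = 1 := by
  obtain ⟨h1, h2⟩ := h.rho_Y hy hyD
  obtain ⟨hx, hxD⟩ := h.pi_mem (u := u) hu hyD
  obtain ⟨hw, hwD⟩ := h.pi_mem (u := v) hv hxD
  have h4 := h.rho v hv
  have h5 := h.ab' _ h4 _ h1
  have h6 := h.rho_conj hv hx hxD
  obtain ⟨h7, h8⟩ := h.rho_Y hw hwD
  obtain ⟨h9, h10⟩ := h.pi_mem (u := u) hu hwD
  have hdm := h.DU' _ hd _ h1
  set Z := a * b * y * (a * b)⁻¹ with hZ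
  set v' := a * b * v * (a * b)⁻¹ with hv'
  set x := pi a b u y with hxe
  set w := pi a b v x with hwe
  set W := a * b * w * (a * b)⁻¹ with hW
  have e1 : u * Z * u⁻¹ = x * Z := by
    rw [hxe]
    unfold pi
    rw [← hZ]
    group
  have e2 : u * W * u⁻¹ = pi a b u w * W := by
    unfold pi
    rw [← hW]
    group
  have hui := h.sq' hu
  have h11 := h.comm hx hxD h7 h8
  have h12 := h.ab' _ h7 _ h1
  -- conjugate of `Z` by `[u, v']`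
  have e3 : u * v' * u⁻¹ * v'⁻¹ * Z * (u * v' * u⁻¹ * v'⁻¹)⁻¹ = pi a b u w * (W * Z) := by
    have e4 : v'⁻¹ * Z * v' = Z := by
      rw [mul_assoc, ← h5]; group
    have e5 : u⁻¹ * Z * u = x * Z := by rw [← e1, hui]
    have e6 : v' * Z * v'⁻¹ = Z := by rw [h5]; group
    calc u * v' * u⁻¹ * v'⁻¹ * Z * (u * v' * u⁻¹ * v'⁻¹)⁻¹
        = u * (v' * (u⁻¹ * (v'⁻¹ * Z * v') * u) * v'⁻¹) * u⁻¹ := by group
      _ = u * (v' * (x * Z) * v'⁻¹) * u⁻¹ := by rw [e4, e5]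
      _ = u * ((v' * x * v'⁻¹) * (v' * Z * v'⁻¹)) * u⁻¹ := by group
      _ = u * (W * x * Z) * u⁻¹ := by rw [h6, e6]
      _ = (u * W * u⁻¹) * (u * x * u⁻¹) * (u * Z * u⁻¹) := by group
      _ = pi a b u w * W * x * (x * Z) := by
          have e7 : u * x * u⁻¹ = x := by rw [h.ab u hu x hx]; group
          rw [e1, e2, e7]
      _ = pi a b u w * (W * (x * x) * Z) := by group
      _ = pi a b u w * (W * Z) := by rw [h.sq x hx, mul_one]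
  rw [e3] at hdm
  refine h.inf _ h9 ?_
  have e8 : pi a b u w = pi a b u w * (W * Z) * (W * Z)⁻¹ := by group
  rw [e8]
  exact mul_mem hdm (inv_mem (mul_mem h7 h1))

/-- `pi u` is idempotent. -/
theorem idem {u v y : G} (hu : u ∈ U) (hv : v ∈ U)
    (hd : u * (a * b * v * (a * b)⁻¹) * u⁻¹ * (a * b * v * (a * b)⁻¹)⁻¹ ∈ D)
    (hd' : v * (a * b * u * (a * b)⁻¹) * v⁻¹ * (a * b * u * (a * b)⁻¹)⁻¹ ∈ D)
    (huv : u * v * a⁻¹ ∈ D) (hy : y ∈ U) (hyD : y ∈ D) : pi a b u (pi a b u y) = pi a b u y := by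
  have hg : ∀ {x : G}, x ∈ U → x ∈ D → pi a b v x = pi a b u x * x := by
    intro x hx hxD
    have h1 := h.pi_congr (mul_mem hu hv) h.aU huv hx hxD
    rw [h.mul_pi hu hv hxD, h.pi_a hx hxD] at h1
    have h2 := h.sq _ (h.pi_mem (u := u) hu hxD).1
    calc pi a b v x = (pi a b u x * pi a b u x) * pi a b v x := by rw [h2, one_mul]
      _ = pi a b u x * (pi a b u x * pi a b v x) := by group
      _ = pi a b u x * x := by rw [h1]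
  obtain ⟨m1, d1⟩ := h.pi_mem (u := u) hu hyD
  obtain ⟨m2, d2⟩ := h.pi_mem (u := u) hu d1
  obtain ⟨m3, d3⟩ := h.pi_mem (u := u) hu d2
  have k1 := h.key hu hv hd hy hyD
  rw [hg m1 d1, h.pi_mul hu m2 d2 m1 d1] at k1
  have k2 := h.key hv hu hd' hy hyD
  rw [hg hy hyD, h.pi_mul hu m1 d1 hy hyD, hg (mul_mem m2 m1) (mul_mem d2 d1),
    h.pi_mul hu m2 d2 m1 d1] at k2
  -- `k1 : f³ f² = 1`, `k2 : f³ f² (f² f) = 1`
  rw [k1, one_mul] at k2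
  have h3 : pi a b u (pi a b u y) = (pi a b u y)⁻¹ := mul_eq_one_iff_eq_inv.1 k2
  rw [h3, h.sq' m1]

/-- Orthogonality. -/
theorem orth {u v : G} (hu : u ∈ U) (hv : v ∈ U)
    (hd : u * (a * b * v * (a * b)⁻¹) * u⁻¹ * (a * b * v * (a * b)⁻¹)⁻¹ ∈ D)
    (iu : ∀ y, y ∈ U → y ∈ D → pi a b u (pi a b u y) = pi a b u y)
    (iv : ∀ y, y ∈ U → y ∈ D → pi a b v (pi a b v y) = pi a b v y)
    (iuv : ∀ y, y ∈ U → y ∈ D → pi a b (u * v) (pi a b (u * v) y) = pi a b (u * v) y)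
    {y : G} (hy : y ∈ U) (hyD : y ∈ D) : pi a b u (pi a b v y) = 1 := by
  have hc : ∀ x, x ∈ U → x ∈ D → pi a b u (pi a b v x) = pi a b v (pi a b u x) := by
    intro x hx hxD
    have h1 := iuv x hx hxD
    obtain ⟨m1, d1⟩ := h.pi_mem (u := u) hu hxD
    obtain ⟨m2, d2⟩ := h.pi_mem (u := v) hv hxD
    obtain ⟨m3, d3⟩ := h.pi_mem (u := u) hu d2
    obtain ⟨m4, d4⟩ := h.pi_mem (u := v) hv d1
    rw [h.mul_pi hu hv hxD, h.mul_pi hu hv (mul_mem d1 d2), h.pi_mul hu m1 d1 m2 d2,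
      h.pi_mul hv m1 d1 m2 d2, iu x hx hxD, iv x hx hxD] at h1
    -- `f * fg * (gf * g) = f * g`
    have h2 : pi a b u (pi a b v x) * pi a b v (pi a b u x) = 1 := by
      calc pi a b u (pi a b v x) * pi a b v (pi a b u x)
          = (pi a b u x)⁻¹ * (pi a b u x * pi a b u (pi a b v x) *
            (pi a b v (pi a b u x) * pi a b v x)) * (pi a b v x)⁻¹ := by group
        _ = (pi a b u x)⁻¹ * (pi a b u x * pi a b v x) * (pi a b v x)⁻¹ := by rw [h1]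
        _ = 1 := by group
    have h4 : pi a b u (pi a b v x) = (pi a b v (pi a b u x))⁻¹ := mul_eq_one_iff_eq_inv.1 h2
    rw [h4, h.sq' m4]
  obtain ⟨m2, d2⟩ := h.pi_mem (u := v) hv hyD
  have h1 := h.key hu hv hd hy hyD
  rw [← hc y hy hyD, iu _ m2 d2] at h1
  exact h1

end Co

end Cfsg.Agent.Omega.NOThreeL.ATwo
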