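import Cfsg.Agent.Omega.NOThreeL.ATwo.Core

/-!
# NO-3L A2 (text #16411 (2)): commutation of `pi u` and `pi v`

* `Co.pi_comm` : `pi u (pi v y) = pi v (pi u y)` if `[u, v^ρ] ∈ D` and `[v, u^ρ] ∈ D`;
* `Co.orth'` : `pi u (pi v y) = 1` if moreover `pi v` is idempotent.
-/

set_option autoImplicit false
set_option Elab.async false

namespace Cfsg.Agent.Omega.NOThreeL.ATwo

open Subgroup

universe u

variable {G : Type u} [Group G]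

namespace Co

variable {U U' D : Subgroup G} {a b : G} (h : Co U U' D a b)
include h

/-- conjugate of `y^ρ` by `[u, v^ρ]` -/
theorem conj_rho {u v y : G} (hu : u ∈ U) (hv : v ∈ U)
    (hd : u * (a * b * v * (a * b)⁻¹) * u⁻¹ * (a * b * v * (a * b)⁻¹)⁻¹ ∈ D)
    (hy : y ∈ U) (hyD : y ∈ D) :
    u * (a * b * v * (a * b)⁻¹) * u⁻¹ * (a * b * v * (a * b)⁻¹)⁻¹ * (a * b * y * (a * b)⁻¹) *
      (u * (a * b * v * (a * b)⁻¹) * u⁻¹ * (a * b * v * (a * b)⁻¹)⁻¹)⁻¹ =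
      a * b * (pi a b v (pi a b u y) * y) * (a * b)⁻¹ := by
  have hkey := h.key hu hv hd hy hyD
  obtain ⟨h1, h2⟩ := h.rho_Y hy hyD
  obtain ⟨hx, hxD⟩ := h.pi_mem (u := u) hu hyD
  obtain ⟨hw, hwD⟩ := h.pi_mem (u := v) hv hxD
  have h4 := h.rho v hv
  have h5 := h.ab' _ h4 _ h1
  have h6 := h.rho_conj hv hx hxD
  obtain ⟨h7, h8⟩ := h.rho_Y hw hwD
  set Z := a * b * y * (a * b)⁻¹ with hZ
  set v' := a * b * v * (a * b)⁻¹ with hv'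
  set x := pi a b u y with hxe
  set w := pi a b v x with hwe
  set W := a * b * w * (a * b)⁻¹ with hW
  have e1 : u * Z * u⁻¹ = x * Z := by
    rw [hxe]
    unfold pi
    rw [← hZ]
    group
  have e2 : u * W * u⁻¹ = pi a b u w * W := by
    unfold pi
    rw [← hW]
    group
  have hui := h.sq' hu
  have e4 : v'⁻¹ * Z * v' = Z := by
    rw [mul_assoc, ← h5]; group
  have e5 : u⁻¹ * Z * u = x * Z := by rw [← e1, hui]
  have e6 : v' * Z * v'⁻¹ = Z := by rw [h5]; group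
  calc u * v' * u⁻¹ * v'⁻¹ * Z * (u * v' * u⁻¹ * v'⁻¹)⁻¹
      = u * (v' * (u⁻¹ * (v'⁻¹ * Z * v') * u) * v'⁻¹) * u⁻¹ := by group
    _ = u * (v' * (x * Z) * v'⁻¹) * u⁻¹ := by rw [e4, e5]
    _ = u * ((v' * x * v'⁻¹) * (v' * Z * v'⁻¹)) * u⁻¹ := by group
    _ = u * (W * x * Z) * u⁻¹ := by rw [h6, e6]
    _ = (u * W * u⁻¹) * (u * x * u⁻¹) * (u * Z * u⁻¹) := by group
    _ = pi a b u w * W * x * (x * Z) := by
        have e7 : u * x * u⁻¹ = x := by rw [h.ab u hu x hx]; group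
        rw [e1, e2, e7]
    _ = pi a b u w * (W * (x * x) * Z) := by group
    _ = W * Z := by rw [h.sq x hx, mul_one, hkey, one_mul]
    _ = a * b * (w * y) * (a * b)⁻¹ := by rw [hW, hZ]; group

/-- conjugate of `y` by `[u, v^ρ]` -/
theorem conj_Y {u v y : G} (hu : u ∈ U) (hv : v ∈ U)
    (hd' : v * (a * b * u * (a * b)⁻¹) * v⁻¹ * (a * b * u * (a * b)⁻¹)⁻¹ ∈ D)
    (hy : y ∈ U) (hyD : y ∈ D) :
    u * (a * b * v * (a * b)⁻¹) * u⁻¹ * (a * b * v * (a * b)⁻¹)⁻¹ * y *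
      (u * (a * b * v * (a * b)⁻¹) * u⁻¹ * (a * b * v * (a * b)⁻¹)⁻¹)⁻¹ =
      pi a b u (pi a b v y) * y := by
  have hkey := h.key hv hu hd' hy hyD
  obtain ⟨hw, hwD⟩ := h.pi_mem (u := v) hv hyD
  obtain ⟨hp, hpD⟩ := h.pi_mem (u := u) hu hwD
  obtain ⟨hW, hWD⟩ := h.rho_Y hw hwD
  have h4 := h.rho v hv
  have h6 := h.rho_conj hv hy hyD
  have h7 := h.rho_conj hv hp hpD
  rw [hkey] at h7
  have h9 := h.ab' _ h4 _ hW
  set v' := a * b * v * (a * b)⁻¹ with hv'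
  set w := pi a b v y with hwe
  set W := a * b * w * (a * b)⁻¹ with hWe
  set p := pi a b u w with hpe
  have hWW : W * W = 1 := by
    have e : W * W = a * b * (w * w) * (a * b)⁻¹ := by rw [hWe]; group
    rw [e, h.sq w hw]; group
  have hvv : v'⁻¹ = v' := by
    have e : v'⁻¹ = a * b * v⁻¹ * (a * b)⁻¹ := by rw [hv']; group
    rw [e, h.sq' hv]
  have e1 : u * W * u⁻¹ = p * W := by
    rw [hpe]
    unfold pi
    rw [← hWe]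
    group
  have e2 : v'⁻¹ * y * v' = W * y := by
    have e : v'⁻¹ * y * v' = v' * y * v'⁻¹ := by rw [hvv]
    rw [e, h6]
  have e3 : u⁻¹ * (W * y) * u = p * W * y := by
    have e : u⁻¹ * (W * y) * u = u * (W * y) * u⁻¹ := by rw [h.sq' hu]
    have e' : u * y * u⁻¹ = y := by rw [h.ab u hu y hy]; group
    calc u⁻¹ * (W * y) * u = u * (W * y) * u⁻¹ := e
      _ = (u * W * u⁻¹) * (u * y * u⁻¹) := by group
      _ = p * W * y := by rw [e1, e']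
  have e4 : v' * W * v'⁻¹ = W := by rw [h9]; group
  have e5 : v' * p * v'⁻¹ = p := by rw [h7]; group
  have e6 : v' * (p * W * y) * v'⁻¹ = p * y := by
    calc v' * (p * W * y) * v'⁻¹ = (v' * p * v'⁻¹) * (v' * W * v'⁻¹) * (v' * y * v'⁻¹) := by group
      _ = p * W * (W * y) := by rw [e4, e5, h6]
      _ = p * (W * W) * y := by group
      _ = p * y := by rw [hWW, mul_one]
  have e7 : u * (p * y) * u⁻¹ = p * y := by
    rw [h.ab u hu _ (mul_mem hp hy)]; group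
  calc u * v' * u⁻¹ * v'⁻¹ * y * (u * v' * u⁻¹ * v'⁻¹)⁻¹
      = u * (v' * (u⁻¹ * (v'⁻¹ * y * v') * u) * v'⁻¹) * u⁻¹ := by group
    _ = p * y := by rw [e2, e3, e6, e7]

/-- **Commutation.** -/
theorem pi_comm {u v y : G} (hu : u ∈ U) (hv : v ∈ U)
    (hd : u * (a * b * v * (a * b)⁻¹) * u⁻¹ * (a * b * v * (a * b)⁻¹)⁻¹ ∈ D)
    (hd' : v * (a * b * u * (a * b)⁻¹) * v⁻¹ * (a * b * u * (a * b)⁻¹)⁻¹ ∈ D)
    (hy : y ∈ U) (hyD : y ∈ D) : pi a b u (pi a b v y) = pi a b v (pi a b u y) := by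
  have h1 := h.conj_rho hu hv hd hy hyD
  have h2 := h.conj_Y hu hv hd' hy hyD
  set δ := u * (a * b * v * (a * b)⁻¹) * u⁻¹ * (a * b * v * (a * b)⁻¹)⁻¹ with hδ
  -- `κ₁ = [a, δ] ∈ Y`, `κ₂ = [b, δ] ∈ Y'`
  have k1 : a⁻¹ * δ * a * δ⁻¹ ∈ U ∧ a⁻¹ * δ * a * δ⁻¹ ∈ D := by
    constructor
    · have e : a⁻¹ * δ * a * δ⁻¹ = a⁻¹ * (δ * a * δ⁻¹) := by group
      rw [e]
      exact mul_mem (inv_mem h.aU) (h.DU δ hd a h.aU)
    · have := h.UD a⁻¹ (inv_mem h.aU) δ hd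
      rw [inv_inv] at this
      exact mul_mem this (inv_mem hd)
  have k2 : b⁻¹ * δ * b * δ⁻¹ ∈ U' ∧ b⁻¹ * δ * b * δ⁻¹ ∈ D := by
    constructor
    · have e : b⁻¹ * δ * b * δ⁻¹ = b⁻¹ * (δ * b * δ⁻¹) := by group
      rw [e]
      exact mul_mem (inv_mem h.bU) (h.DU' δ hd b h.bU)
    · have := h.UD' b⁻¹ (inv_mem h.bU) δ hd
      rw [inv_inv] at this
      exact mul_mem this (inv_mem hd)
  set κ₁ := a⁻¹ * δ * a * δ⁻¹ with hκ₁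
  set κ₂ := b⁻¹ * δ * b * δ⁻¹ with hκ₂
  -- `c = κ₁ [κ₁, b] κ₂`
  have k3 : κ₁⁻¹ * b⁻¹ * κ₁ * b ∈ U' ∧ κ₁⁻¹ * b⁻¹ * κ₁ * b ∈ D := by
    constructor
    · have := h.DU' κ₁⁻¹ (inv_mem k1.2) b⁻¹ (inv_mem h.bU)
      rw [inv_inv] at this
      exact mul_mem this h.bU
    · have e : κ₁⁻¹ * b⁻¹ * κ₁ * b = κ₁⁻¹ * (b⁻¹ * κ₁ * b) := by group
      rw [e]
      have := h.UD' b⁻¹ (inv_mem h.bU) κ₁ k1.2
      rw [inv_inv] at this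
      exact mul_mem (inv_mem k1.2) this
  have hyy : δ * y * δ⁻¹ ∈ U ∧ δ * y * δ⁻¹ ∈ D :=
    ⟨h.DU δ hd y hy, mul_mem (mul_mem hd hyD) (inv_mem hd)⟩
  have c1 := h.ab κ₁ k1.1 _ hyy.1
  have c2 := h.comm hyy.1 hyy.2 k2.1 k2.2
  have c3 := h.comm hyy.1 hyy.2 k3.1 k3.2
  set X := δ * y * δ⁻¹ with hX
  have e1 : δ * (a * b * y * (a * b)⁻¹) * δ⁻¹ = a * b * X * (a * b)⁻¹ := by
    have e2 : (a * b)⁻¹ * δ * (a * b) = κ₁ * (κ₁⁻¹ * b⁻¹ * κ₁ * b) * κ₂ * δ := by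
      rw [hκ₁, hκ₂]; group
    have e3 : (κ₁ * (κ₁⁻¹ * b⁻¹ * κ₁ * b) * κ₂) * X = X * (κ₁ * (κ₁⁻¹ * b⁻¹ * κ₁ * b) * κ₂) := by
      calc (κ₁ * (κ₁⁻¹ * b⁻¹ * κ₁ * b) * κ₂) * X = κ₁ * (κ₁⁻¹ * b⁻¹ * κ₁ * b) * (κ₂ * X) := by group
        _ = κ₁ * ((κ₁⁻¹ * b⁻¹ * κ₁ * b) * X) * κ₂ := by rw [← c2]; group
        _ = (κ₁ * X) * (κ₁⁻¹ * b⁻¹ * κ₁ * b) * κ₂ := by rw [← c3]; group
        _ = X * (κ₁ * (κ₁⁻¹ * b⁻¹ * κ₁ * b) * κ₂) := by rw [c1]; group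
    calc δ * (a * b * y * (a * b)⁻¹) * δ⁻¹
        = a * b * (((a * b)⁻¹ * δ * (a * b)) * y * ((a * b)⁻¹ * δ * (a * b))⁻¹) * (a * b)⁻¹ := by group
      _ = a * b * ((κ₁ * (κ₁⁻¹ * b⁻¹ * κ₁ * b) * κ₂) * X *
          (κ₁ * (κ₁⁻¹ * b⁻¹ * κ₁ * b) * κ₂)⁻¹) * (a * b)⁻¹ := by rw [e2, hX]; group
      _ = a * b * X * (a * b)⁻¹ := by rw [e3]; group
  rw [h1, h2] at e1
  have e4 : pi a b v (pi a b u y) * y = pi a b u (pi a b v y) * y := by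
    have := congrArg (fun t => (a * b)⁻¹ * t * (a * b)) e1
    simpa [mul_assoc] using this
  exact (mul_right_cancel e4).symm

/-- Orthogonality. -/
theorem orth' {u v : G} (hu : u ∈ U) (hv : v ∈ U)
    (hd : u * (a * b * v * (a * b)⁻¹) * u⁻¹ * (a * b * v * (a * b)⁻¹)⁻¹ ∈ D)
    (hd' : v * (a * b * u * (a * b)⁻¹) * v⁻¹ * (a * b * u * (a * b)⁻¹)⁻¹ ∈ D)
    (iv : ∀ y, y ∈ U → y ∈ D → pi a b v (pi a b v y) = pi a b v y)
    {y : G} (hy : y ∈ U) (hyD : y ∈ D) : pi a b u (pi a b v y) = 1 := by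
  obtain ⟨m, d⟩ := h.pi_mem (u := v) hv hyD
  have h1 := h.key hv hu hd' hy hyD
  rw [← h.pi_comm hu hv hd hd' m d, iv y hy hyD] at h1
  exact h1

end Co

end Cfsg.Agent.Omega.NOThreeL.ATwo
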