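import Cfsg.Agent.Omega.NOThreeL.ATwo.Exact

/-!
# NO-3L A2, `q = 2` (text #14933 (2), (3), helper850): the components of `Y = C_U(V)`

`h : Cfg M z U`. `Up M u b` : `u` acts on `V` as `up (b i)` on the `i`-th factor.

* `Comps` : the data `a b U'` of the pair and its consequences;
* `Comps.idem`, `Comps.orth` : `pi u` is idempotent for `u ∈ U`, `pi u (pi v y) = 1` for `u`, `v` with disjoint supports;
* `Comps.val` : for `y ∈ Y`, `pi (u i) y = y`, and `u ∈ U` acting as `up b`: `pi u y = y` if `b i = 1`, `1` if `b i = 0`;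
* `Comps.gen` : a subgroup containing all components `pi (u i) y` of `y ∈ Y` contains `y`.
-/

set_option autoImplicit false
set_option Elab.async false

namespace Cfsg.Agent.Omega.NOThreeL.ATwo

open Subgroup Cfsg Cfsg.Agent.ZN Cfsg.Agent.ZN.ChoiceBase
open Cfsg.Agent.Omega.MinPar Cfsg.Agent.Omega.FFThm
open Cfsg.Agent.MinSimple.VModule (le_normalizer_zl)
open Cfsg.Agent.Lib.SL2Mat
open Cfsg.Agent.Omega.NatPair (ap ap_mul ap_one ap_inv_ap ap_ap_inv exists_ap ap_add)
open Cfsg.Agent.Omega.IId (Ind cj_mem cj_mem' e_inj acts_mul acts_inv acts_one sg sg_spec e_one e_inv)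

universe u

variable {G : Type u} [Group G] {F : Type} [Field F] {S P : Subgroup G} {k : ℕ}

/-- `u` acts on `V` as `up (b i)` on the `i`-th factor. -/
def Up (M : NatK F S P (zl S P) ⊥ k) (u : G) (b : Fin k → F) : Prop :=
  ActsSL M.e (zl S P) ⊥ u fun i => up (b i)

/-- The pair of `U` and its opposite. -/
structure Comps (M : NatK F S P (zl S P) ⊥ k) (z : G) (U U' : Subgroup G) (a b : G) : Prop extends
    Cfg M z U where
  co : Co U U' (centralizer (zl S P : Set G)) a b
  aP : a ∈ P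
  bP : b ∈ P
  UP' : U' ≤ P
  aA : ActsSL M.e (zl S P) ⊥ a fun _ => up 1
  bA : ActsSL M.e (zl S P) ⊥ b fun _ => lo 1

theorem Cfg.exists_comps [CharP F 2] {M : NatK F S P (zl S P) ⊥ k} {z : G} {U : Subgroup G} (h : Cfg M z U) :
    ∃ (a b : G) (U' : Subgroup G), Comps M z U U' a b := by
  obtain ⟨a, b, U', h1, h2, h3, h4, h5, h6⟩ := h.exists_co
  exact ⟨a, b, U', ⟨h, h1, h2, h3, h4, h5, h6⟩⟩

variable {M : NatK F S P (zl S P) ⊥ k}

theorem Up.mul {u v : G} {b c : Fin k → F} (hv : v ∈ P) (h1 : Up M u b) (h2 : Up M v c) :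
    Up M (u * v) (b + c) := by
  have h3 := acts_mul hv h1 h2
  have e : ((fun i => up (b i)) * (fun i => up (c i)) : Fin k → Matrix.SpecialLinearGroup (Fin 2) F) =
      fun i => up ((b + c) i) := by
    funext i
    rw [Pi.mul_apply, up_mul, Pi.add_apply]
  rw [e] at h3
  exact h3

theorem Up.inv {u : G} {b : Fin k → F} (hu : u ∈ P) (h1 : Up M u b) : Up M u⁻¹ (-b) := by
  have h3 := acts_inv hu h1
  have e : ((fun i => up (b i))⁻¹ : Fin k → Matrix.SpecialLinearGroup (Fin 2) F) =
      fun i => up ((-b) i) := by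
    funext i
    rw [Pi.inv_apply, up_inv, Pi.neg_apply]
  rw [e] at h3
  exact h3

theorem Up.congr {u v : G} {b : Fin k → F} (hu : u ∈ P) (hv : v ∈ P) (h1 : Up M u b) (h2 : Up M v b) :
    u * v⁻¹ ∈ centralizer (zl S P : Set G) := mem_cent_of_eq hu hv h1 h2

theorem Up.cent {u : G} (hu : u ∈ P) (h1 : Up M u 0) : u ∈ centralizer (zl S P : Set G) := by
  refine mem_cent_of_acts (M := M) hu ?_
  have e : (fun i => up ((0 : Fin k → F) i)) = (1 : Fin k → Matrix.SpecialLinearGroup (Fin 2) F) := by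
    funext i
    rw [Pi.zero_apply, up_zero, Pi.one_apply]
  have h2 : ActsSL M.e (zl S P) ⊥ u fun i => up ((0 : Fin k → F) i) := h1
  rwa [e] at h2

/-- the coordinates `b` are determined by `u` -/
theorem Up.eq {u : G} {b c : Fin k → F} (h1 : Up M u b) (h2 : Up M u c) : b = c := by
  obtain ⟨v, hv, he⟩ := M.surj fun _ => ![0, 1]
  funext i
  have e1 := h1.1 v hv i
  rw [h2.1 v hv i, he] at e1
  have e2 := congrFun e1 0
  rw [NatPair.ap_zero', NatPair.ap_zero'] at e2
  simp at e2
  exact e2.symm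

theorem up_of_cent {u : G} (hu : u ∈ centralizer (zl S P : Set G)) : Up M u 0 := by
  refine ⟨fun v hv i => ?_, fun d hd => ?_⟩
  · have h1 := mem_centralizer_iff.1 hu v hv
    have h2 : u * v * u⁻¹ = v := by rw [← h1]; group
    rw [h2]
    change _ = ap (up 0) _
    rw [up_zero, ap_one]
  · rw [mem_bot] at hd
    rw [hd]
    group

namespace Comps

variable [CharP F 2] {z a b : G} {U U' : Subgroup G} (h : Comps M z U U' a b)
include h

theorem rhoP : a * b ∈ P := mul_mem h.aP h.bP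

theorem rho_acts : ActsSL M.e (zl S P) ⊥ (a * b) fun _ => up 1 * lo 1 := by
  have := acts_mul h.bP h.aA h.bA
  exact this

/-- `v^ρ` acts as `lo c` if `v` acts as `up c`. -/
theorem rho_lo {v : G} {c : Fin k → F} (hv : v ∈ P) (hc : Up M v c) :
    ActsSL M.e (zl S P) ⊥ (a * b * v * (a * b)⁻¹) fun i => lo (c i) := by
  have h1 := acts_conj h.rhoP hv h.rho_acts hc
  have e : ((fun _ => up 1 * lo 1) * (fun i => up (c i)) * (fun _ => up 1 * lo 1)⁻¹ :
      Fin k → Matrix.SpecialLinearGroup (Fin 2) F) = fun i => lo (c i) := by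
    funext i
    rw [Pi.mul_apply, Pi.mul_apply, Pi.inv_apply, rho_up]
  rwa [e] at h1

/-- `[u, v^ρ] ∈ C_G(V)` for disjoint supports. -/
theorem disj {u v : G} {β γ : Fin k → F} (hu : u ∈ P) (hv : v ∈ P) (h1 : Up M u β) (h2 : Up M v γ)
    (hd : ∀ i, β i = 0 ∨ γ i = 0) :
    u * (a * b * v * (a * b)⁻¹) * u⁻¹ * (a * b * v * (a * b)⁻¹)⁻¹ ∈ centralizer (zl S P : Set G) := by
  have h3 := h.rho_lo hv h2
  have hv' : a * b * v * (a * b)⁻¹ ∈ P := mul_mem (mul_mem h.rhoP hv) (inv_mem h.rhoP)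
  refine mem_cent_of_acts (M := M) (mul_mem (mul_mem (mul_mem hu hv') (inv_mem hu)) (inv_mem hv')) ?_
  have h4 := acts_mul (inv_mem hv') (acts_mul (inv_mem hu) (acts_mul hv' h1 h3) (acts_inv hu h1))
    (acts_inv hv' h3)
  have e : ((fun i => up (β i)) * (fun i => lo (γ i)) * (fun i => up (β i))⁻¹ * (fun i => lo (γ i))⁻¹ :
      Fin k → Matrix.SpecialLinearGroup (Fin 2) F) = 1 := by
    funext i
    rw [Pi.mul_apply, Pi.mul_apply, Pi.mul_apply, Pi.inv_apply, Pi.inv_apply, Pi.one_apply]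
    rcases hd i with h0 | h0
    · rw [h0, up_zero]; group
    · rw [h0, lo_zero]; group
  rwa [e] at h4

theorem idem {u y : G} (hu : u ∈ U) (hy : y ∈ U) (hyD : y ∈ centralizer (zl S P : Set G)) :
    pi a b u (pi a b u y) = pi a b u y := by
  obtain ⟨β, hβ⟩ := h.exists_b hu
  obtain ⟨v, hv, hvA⟩ := h.exists_up (1 + β)
  have h2 : (1 : F) + 1 = 0 := CharTwo.add_self_eq_zero 1
  have hd : ∀ i, β i = 0 ∨ (1 + β) i = 0 := by
    intro i
    rcases h.two (β i) with h0 | h0
    · exact Or.inl h0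
    · right
      rw [Pi.add_apply, Pi.one_apply, h0, h2]
  have hd' : ∀ i, (1 + β) i = 0 ∨ β i = 0 := fun i => (hd i).symm
  refine h.co.idem hu hv (h.disj (h.UP hu) (h.UP hv) hβ hvA hd) (h.disj (h.UP hv) (h.UP hu) hvA hβ hd') ?_ hy hyD
  refine Up.congr (M := M) (b := β + (1 + β)) (mul_mem (h.UP hu) (h.UP hv)) h.aP (Up.mul (h.UP hv) hβ hvA) ?_
  have e : β + (1 + β) = 1 := by
    funext i
    rw [Pi.add_apply, Pi.add_apply, Pi.one_apply]
    linear_combination (β i) * h2
  rw [e]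
  exact h.aA

theorem orth {u v y : G} {β γ : Fin k → F} (hu : u ∈ U) (hv : v ∈ U) (h1 : Up M u β) (h2 : Up M v γ)
    (hd : ∀ i, β i = 0 ∨ γ i = 0) (hy : y ∈ U) (hyD : y ∈ centralizer (zl S P : Set G)) :
    pi a b u (pi a b v y) = 1 :=
  h.co.orth hu hv (h.disj (h.UP hu) (h.UP hv) h1 h2 hd) (fun _ hx hxD => h.idem hu hx hxD)
    (fun _ hx hxD => h.idem hv hx hxD) (fun _ hx hxD => h.idem (mul_mem hu hv) hx hxD) hy hyD

open Classical in
/-- **(3)** the value of `pi u` on a component. -/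
theorem val {u v y : G} {β : Fin k → F} {i : Fin k} (hu : u ∈ U) (hv : v ∈ U) (h1 : Up M u β)
    (h2 : Up M v (Pi.single i 1)) (hy : y ∈ U) (hyD : y ∈ centralizer (zl S P : Set G))
    (he : pi a b v y = y) : pi a b u y = if β i = 0 then 1 else y := by
  have key : ∀ {u : G} {β : Fin k → F}, u ∈ U → Up M u β → β i = 0 → pi a b u y = 1 := by
    intro u β hu h1 h0
    have h3 := h.orth hu hv h1 h2 (fun j => ?_) hy hyD
    · rwa [he] at h3
    · by_cases hj : j = i
      · rw [hj]; exact Or.inl h0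
      · right
        rw [Pi.single_eq_of_ne hj]
  split_ifs with h0
  · exact key hu h1 h0
  · have h3 : β i = 1 := (h.two _).resolve_left h0
    have h4 := key (mul_mem hu hv) (Up.mul (h.UP hv) h1 h2) (by
      rw [Pi.add_apply, Pi.single_eq_same, h3]
      exact CharTwo.add_self_eq_zero 1)
    rw [h.co.mul_pi hu hv hyD, he] at h4
    have h5 : pi a b u y = y⁻¹ := mul_eq_one_iff_eq_inv.1 h4
    rw [h5, h.co.sq' hy]

open Classical in
/-- Every `y ∈ Y` is the product of its components. -/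
theorem gen {y : G} (hy : y ∈ U) (hyD : y ∈ centralizer (zl S P : Set G)) {R : Subgroup G}
    (hR : ∀ (i : Fin k), ∀ v ∈ U, Up M v (Pi.single i 1) → pi a b v y ∈ R) : y ∈ R := by
  have key : ∀ (I : Finset (Fin k)) (u : G) (β : Fin k → F), u ∈ U → Up M u β → (∀ i, i ∉ I → β i = 0) →
      pi a b u y ∈ R := by
    intro I
    induction I using Finset.induction_on with
    | empty =>
      intro u β hu hβ h0
      have e : β = 0 := funext fun i => h0 i (Finset.notMem_empty i)
      rw [e] at hβ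
      rw [h.co.pi_eq_one hu (Up.cent (h.UP hu) hβ) hy hyD]
      exact one_mem _
    | insert i I hi ih =>
      intro u β hu hβ h0
      rcases h.two (β i) with h3 | h3
      · refine ih u β hu hβ fun j hj => ?_
        by_cases hji : j = i
        · rw [hji, h3]
        · exact h0 j fun h4 => (Finset.mem_insert.1 h4).elim hji hj
      · obtain ⟨v, hv, hvA⟩ := h.exists_up (Pi.single i 1)
        have h4 := ih (u * v) _ (mul_mem hu hv) (Up.mul (h.UP hv) hβ hvA) fun j hj => by
          by_cases hji : j = i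
          · rw [hji, Pi.add_apply, Pi.single_eq_same, h3]
            exact CharTwo.add_self_eq_zero 1
          · rw [Pi.add_apply, Pi.single_eq_of_ne hji, add_zero]
            exact h0 j fun h4 => (Finset.mem_insert.1 h4).elim hji hj
        rw [h.co.mul_pi hu hv hyD] at h4
        have h5 := mul_mem h4 (inv_mem (hR i v hv hvA))
        rwa [mul_inv_cancel_right] at h5
  have h1 := key Finset.univ a 1 h.co.aU h.aA fun i hi => (hi (Finset.mem_univ i)).elim
  rwa [h.co.pi_a hy hyD] at h1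

end Comps

end Cfsg.Agent.Omega.NOThreeL.ATwo
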