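import Cfsg.Agent.Omega.NOThreeL.ThmL

/-!
# NO-3L A2, `q = 2` (text #14933 (5), (6), helper850): THEOREM L and its consequence in a group

`U` is an elementary abelian normal subgroup of `H`. `Tv H U φ e` : the transvection `u ↦ u e^{φ(u)}` of `U` is
induced by `H`.

* `GData` : the hypotheses of `ThmL.EndData` in multiplicative notation;
* `GData.fixed` : `z^x ∈ W` implies `z^x = z`, for `x ∈ H`.
-/

set_option autoImplicit false
set_option Elab.async false

namespace Cfsg.Agent.Omega.NOThreeL.ATwo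

open Subgroup

universe u

variable {G : Type u} [Group G]

/-- `x` induces the transvection `u ↦ u e^{φ(u)}` on `U`. -/
def TvBy (U : Subgroup G) (φ : G → ZMod 2) (e x : G) : Prop :=
  ∀ u ∈ U, x * u * x⁻¹ = if φ u = 0 then u else u * e

/-- Two nontrivial transvections with functional `φ` are induced by `H`. -/
def Four (H U : Subgroup G) (φ : G → ZMod 2) : Prop :=
  ∃ e ∈ U, ∃ d ∈ U, e ≠ 1 ∧ d ≠ 1 ∧ e ≠ d ∧ φ e = 0 ∧ φ d = 0 ∧
    (∃ x ∈ H, TvBy U φ e x) ∧ ∃ x ∈ H, TvBy U φ d x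

/-- The hypotheses of `ThmL.EndData` in multiplicative notation. -/
structure GData (H U W S Q : Subgroup G) (z : G) {k : ℕ} (φ : Fin k → G → ZMod 2) (c : Fin k → G) : Prop where
  UH : U ≤ H
  SH : S ≤ H
  nrm : ∀ x ∈ H, ∀ u ∈ U, x * u * x⁻¹ ∈ U
  ab : ∀ u ∈ U, ∀ v ∈ U, u * v = v * u
  sq : ∀ u ∈ U, u * u = 1
  zU : z ∈ U
  gen : ∀ A : Subgroup G, (∀ x ∈ H, x * z * x⁻¹ ∈ A) → U ≤ A
  core : ∀ T : Subgroup G, T ≤ U → S ≤ normalizer (T : Set G) → T ≠ ⊥ → z ∈ T
  add : ∀ i, ∀ u ∈ U, ∀ v ∈ U, φ i (u * v) = φ i u + φ i v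
  ne : ∀ i, ∃ u ∈ U, φ i u ≠ 0
  cU : ∀ i, c i ∈ U
  c0 : ∀ i, φ i (c i) = 0
  cne : ∀ i, c i ≠ 1
  prod : z = (List.ofFn c).prod
  tr : ∀ i, ∃ x ∈ H, x ∈ Q ∧ TvBy U (φ i) (c i) x
  QP : ∀ x ∈ Q, ∃ n : ℕ, x ^ (2 ^ n) = 1
  QH : Q ≤ H
  Qn : ∀ x ∈ H, x * z = z * x → ∀ y ∈ Q, x * y * x⁻¹ ∈ Q
  perm : ∀ s ∈ S, ∀ i, ∃ j, ∀ u ∈ U, φ i (s⁻¹ * u * s) = φ j u
  trans : ∀ i j, ∃ s ∈ S, ∀ u ∈ U, φ i (s⁻¹ * u * s) = φ j u
  WU : W ≤ U
  Wn : ∀ x ∈ H, x * z = z * x → ∀ w ∈ W, x * w * x⁻¹ ∈ W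
  Wφ : ∀ i, ∀ w ∈ W, φ i w = 0

namespace GData

variable {H U W S Q : Subgroup G} {z : G} {k : ℕ} {φ : Fin k → G → ZMod 2} {c : Fin k → G}

/-- `z^x ∈ W` implies `z^x = z`. -/
theorem fixed [Finite G] (h : GData H U W S Q z φ c) (hk : 0 < k) (h4 : ∀ i, Four H U (φ i)) {x : G} (hx : x ∈ H)
    (hxW : x * z * x⁻¹ ∈ W) : x * z * x⁻¹ = z := by
  classical
  let i1 : AddCommGroup (Additive U) :=
    { (inferInstance : AddGroup (Additive U)) with
      add_comm := fun v w => congrArg Additive.ofMul (Subtype.ext (h.ab _ (Additive.toMul v).2 _ (Additive.toMul w).2)) }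
  let i2 : Module (ZMod 2) (Additive U) := AddCommGroup.zmodModule (n := 2) fun v => by
    rw [two_nsmul]
    exact congrArg Additive.ofMul (Subtype.ext (h.sq _ (Additive.toMul v).2))
  let i3 : DistribMulAction H (Additive U) :=
    { smul := fun x v => Additive.ofMul ⟨x * (Additive.toMul v : U) * (x : G)⁻¹, h.nrm x x.2 _ (Additive.toMul v).2⟩
      one_smul := fun v => congrArg Additive.ofMul (Subtype.ext (by
        change ((1 : H) : G) * (Additive.toMul v : U) * ((1 : H) : G)⁻¹ = (Additive.toMul v : U)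
        rw [OneMemClass.coe_one, one_mul, inv_one, mul_one]))
      mul_smul := fun x y v => congrArg Additive.ofMul (Subtype.ext (by
        change ((x * y : H) : G) * (Additive.toMul v : U) * ((x * y : H) : G)⁻¹ =
          x * (y * (Additive.toMul v : U) * (y : G)⁻¹) * (x : G)⁻¹
        rw [Subgroup.coe_mul]; group))
      smul_zero := fun x => congrArg Additive.ofMul (Subtype.ext (by
        change (x : G) * ((1 : U) : G) * (x : G)⁻¹ = ((1 : U) : G)
        rw [OneMemClass.coe_one, mul_one, mul_inv_cancel]))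
      smul_add := fun x v w => congrArg Additive.ofMul (Subtype.ext (by
        change (x : G) * ((Additive.toMul v * Additive.toMul w : U) : G) * (x : G)⁻¹ =
          (x * (Additive.toMul v : U) * (x : G)⁻¹) * (x * (Additive.toMul w : U) * (x : G)⁻¹)
        rw [Subgroup.coe_mul]; group)) }
  have i4 : Finite (Additive U) := inferInstanceAs (Finite U)
  have smul_def : ∀ (x : H) (v : U), ((Additive.toMul (x • (Additive.ofMul v : Additive U)) : U) : G) =
      x * v * (x : G)⁻¹ := fun _ _ => rfl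
  -- equality of elements of `Additive U`
  have ext' : ∀ {v w : Additive U}, ((Additive.toMul v : U) : G) = ((Additive.toMul w : U) : G) → v = w :=
    fun hvw => congrArg Additive.ofMul (Subtype.ext hvw)
  let f : Fin k → (Additive U →+ ZMod 2) := fun i =>
    { toFun := fun v => φ i (Additive.toMul v : U)
      map_zero' := by
        have h1 := h.add i 1 (one_mem _) 1 (one_mem _)
        rw [mul_one] at h1
        exact left_eq_add.1 h1
      map_add' := fun v w => h.add i _ (Additive.toMul v).2 _ (Additive.toMul w).2 }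
  have hf : ∀ i (v : U), f i (Additive.ofMul v) = φ i (v : G) := fun _ _ => rfl
  let cc : Fin k → Additive U := fun i => Additive.ofMul ⟨c i, h.cU i⟩
  let zz : Additive U := Additive.ofMul ⟨z, h.zU⟩
  -- transvections
  have tv : ∀ i (e : U) (x : G) (hx : x ∈ H), TvBy U (φ i) e x → ∀ u : Additive U,
      (⟨x, hx⟩ : H) • u = u + f i u • (Additive.ofMul e : Additive U) := by
    intro i e x hx hT u
    apply ext'
    have h1 := hT _ (Additive.toMul u).2
    have h2 : f i u = φ i ((Additive.toMul u : U) : G) := rfl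
    have h3 : ((Additive.toMul ((⟨x, hx⟩ : H) • u) : U) : G) = x * (Additive.toMul u : U) * x⁻¹ := rfl
    rw [h3, h1]
    rcases ThmL.z2 (f i u) with h0 | h0
    · rw [if_pos (by rw [← h2, h0]), h0, zero_smul, add_zero]
    · rw [if_neg (by rw [← h2, h0]; decide), h0, one_smul]
      rfl
  have act_f : ∀ (s : H) i j, (∀ u ∈ U, φ i ((s : G)⁻¹ * u * s) = φ j u) → ThmL.act s (f i) = f j := by
    intro s i j hs
    refine AddMonoidHom.ext fun u => ?_
    rw [ThmL.act_apply]
    have h1 := hs _ (Additive.toMul u).2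
    have h2 : ((Additive.toMul (s⁻¹ • u) : U) : G) = ((s⁻¹ : H) : G) * (Additive.toMul u : U) * ((s⁻¹ : H) : G)⁻¹ := rfl
    have h3 : f i (s⁻¹ • u) = φ i ((Additive.toMul (s⁻¹ • u) : U) : G) := rfl
    rw [h3, h2, InvMemClass.coe_inv, inv_inv, h1]
    rfl
  let Φ : Set (Additive U →+ ZMod 2) := {g | ∃ (x : H) (i : Fin k), g = ThmL.act x (f i)}
  have act_mul : ∀ (x y : H) (g : Additive U →+ ZMod 2), ThmL.act x (ThmL.act y g) = ThmL.act (x * y) g := by
    intro x y g
    refine AddMonoidHom.ext fun u => ?_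
    rw [ThmL.act_apply, ThmL.act_apply, ThmL.act_apply, mul_inv_rev, mul_smul]
  have act_one : ∀ (g : Additive U →+ ZMod 2), ThmL.act (1 : H) g = g := by
    intro g
    refine AddMonoidHom.ext fun u => ?_
    rw [ThmL.act_apply, inv_one, one_smul]
  have D : ThmL.Data (X := H) Φ := by
    refine ⟨?_, ?_, ?_, ⟨f ⟨0, hk⟩, 1, ⟨0, hk⟩, (act_one _).symm⟩, ?_, ?_⟩
    · rintro x _ ⟨y, i, rfl⟩
      exact ⟨x * y, i, act_mul _ _ _⟩
    · rintro _ ⟨x, i, rfl⟩ _ ⟨y, j, rfl⟩
      obtain ⟨s, hs, h1⟩ := h.trans i j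
      have h2 := act_f ⟨s, h.SH hs⟩ i j h1
      refine ⟨y * ⟨s, h.SH hs⟩ * x⁻¹, ?_⟩
      rw [act_mul, inv_mul_cancel_right, ← act_mul, h2]
    · rintro _ ⟨x, i, rfl⟩ h0
      obtain ⟨u, hu, hne⟩ := h.ne i
      apply hne
      have h1 := DFunLike.congr_fun h0 (x • (Additive.ofMul ⟨u, hu⟩ : Additive U))
      rw [ThmL.act_smul] at h1
      exact h1
    · intro N hN
      by_cases h0 : N = ⊥
      · exact Or.inl h0
      · right
        let T : Subgroup G :=
          { carrier := {t | ∃ ht : t ∈ U, (Additive.ofMul (⟨t, ht⟩ : U) : Additive U) ∈ N}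
            one_mem' := ⟨one_mem _, N.zero_mem⟩
            mul_mem' := by
              rintro a b ⟨ha, ha'⟩ ⟨hb, hb'⟩
              exact ⟨mul_mem ha hb, N.add_mem ha' hb'⟩
            inv_mem' := by
              rintro a ⟨ha, ha'⟩
              exact ⟨inv_mem ha, N.neg_mem ha'⟩ }
        have hT : ∀ t, t ∈ T ↔ ∃ ht : t ∈ U, (Additive.ofMul (⟨t, ht⟩ : U) : Additive U) ∈ N := fun _ => Iff.rfl
        have hTn : ∀ x ∈ H, ∀ t ∈ T, x * t * x⁻¹ ∈ T := by
          rintro x hx t ⟨ht, ht'⟩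
          exact ⟨h.nrm x hx t ht, hN ⟨x, hx⟩ _ ht'⟩
        have hTne : T ≠ ⊥ := by
          intro h1
          apply h0
          rw [eq_bot_iff]
          intro m hm
          have h2 : ((Additive.toMul m : U) : G) ∈ T := ⟨(Additive.toMul m).2, hm⟩
          rw [h1, mem_bot] at h2
          rw [AddSubgroup.mem_bot]
          exact ext' h2
        have hzT : z ∈ T := by
          refine h.core T (fun t ht => ht.1) (fun s hs => ?_) hTne
          rw [mem_normalizer_iff]
          intro t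
          refine ⟨hTn s (h.SH hs) t, fun ht => ?_⟩
          have h2 := hTn s⁻¹ (inv_mem (h.SH hs)) _ ht
          have e : s⁻¹ * (s * t * s⁻¹) * s⁻¹⁻¹ = t := by group
          rwa [e] at h2
        have hUT : U ≤ T := h.gen T fun x hx => hTn x hx z hzT
        rw [eq_top_iff]
        intro m _
        obtain ⟨h1, h2⟩ := hUT (Additive.toMul m).2
        exact h2
    · rintro _ ⟨x, i, rfl⟩
      obtain ⟨e, he, d, hd, he1, hd1, hed, he0, hd0, ⟨y, hy, hyT⟩, ⟨y', hy', hyT'⟩⟩ := h4 i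
      have m1 : (Additive.ofMul (⟨e, he⟩ : U) : Additive U) ∈ ThmL.Y H (f i) :=
        ⟨he0, ⟨y, hy⟩, tv i ⟨e, he⟩ y hy hyT⟩
      have m2 : (Additive.ofMul (⟨d, hd⟩ : U) : Additive U) ∈ ThmL.Y H (f i) :=
        ⟨hd0, ⟨y', hy'⟩, tv i ⟨d, hd⟩ y' hy' hyT'⟩
      refine ⟨_, ThmL.smul_mem_Y m1 x, _, ThmL.smul_mem_Y m2 x, ?_, ?_, ?_⟩
      · intro h0
        rw [smul_eq_zero_iff_eq] at h0
        exact he1 (congrArg Subtype.val (congrArg Additive.toMul h0))
      · intro h0
        rw [smul_eq_zero_iff_eq] at h0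
        exact hd1 (congrArg Subtype.val (congrArg Additive.toMul h0))
      · intro h0
        have h1 := smul_left_cancel x h0
        exact hed (congrArg Subtype.val (congrArg Additive.toMul h1))
  let WW : AddSubgroup (Additive U) :=
    { carrier := {m | ((Additive.toMul m : U) : G) ∈ W}
      zero_mem' := one_mem W
      add_mem' := fun {a b} ha hb => W.mul_mem ha hb
      neg_mem' := fun {a} ha => W.inv_mem ha }
  have hWW : ∀ m : Additive U, m ∈ WW ↔ ((Additive.toMul m : U) : G) ∈ W := fun _ => Iff.rfl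
  have z_iff : ∀ s : H, s • zz = zz → (s : G) * z = z * s := by
    intro s hs
    have h1 : (s : G) * z * (s : G)⁻¹ = z := congrArg Subtype.val (congrArg Additive.toMul hs)
    calc (s : G) * z = s * z * (s : G)⁻¹ * s := by group
      _ = z * s := by rw [h1]
  have E : ThmL.EndData (X := H) Φ f cc zz WW (S.subgroupOf H) := by
    refine ⟨D, fun i => ⟨1, i, (act_one _).symm⟩, fun i => ?_, fun i h0 => ?_, ?_, ?_, ?_, ?_, ?_, ?_⟩
    · obtain ⟨x, hx, -, hT⟩ := h.tr i
      exact ⟨h.c0 i, ⟨x, hx⟩, tv i ⟨c i, h.cU i⟩ x hx hT⟩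
    · exact h.cne i (congrArg Subtype.val (congrArg Additive.toMul h0))
    · -- the sum
      have key : ∀ l : List U, ((l.prod : U) : G) = (l.map U.subtype).prod := fun l =>
        map_list_prod U.subtype l
      have key2 : ∀ l : List U, (Additive.ofMul l.prod : Additive U) = (l.map (Additive.ofMul : U → Additive U)).sum := by
        intro l
        induction l with
        | nil => rfl
        | cons a l ih =>
          rw [List.prod_cons, List.map_cons, List.sum_cons, ← ih]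
          rfl
      have e1 : (⟨z, h.zU⟩ : U) = (List.ofFn fun i => (⟨c i, h.cU i⟩ : U)).prod := by
        apply Subtype.ext
        rw [key, List.map_ofFn]
        exact h.prod
      have e2 : zz = (List.ofFn cc).sum := by
        change Additive.ofMul (⟨z, h.zU⟩ : U) = _
        rw [e1, key2, List.map_ofFn]
        rfl
      rw [e2, List.sum_ofFn]
    · intro s hs i
      obtain ⟨j, hj⟩ := h.perm (s : G) (mem_subgroupOf.1 hs) i
      exact ⟨j, act_f s i j hj⟩
    · intro N hN h0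
      let T : Subgroup G :=
        { carrier := {t | ∃ ht : t ∈ U, (Additive.ofMul (⟨t, ht⟩ : U) : Additive U) ∈ N}
          one_mem' := ⟨one_mem _, N.zero_mem⟩
          mul_mem' := by
            rintro a b ⟨ha, ha'⟩ ⟨hb, hb'⟩
            exact ⟨mul_mem ha hb, N.add_mem ha' hb'⟩
          inv_mem' := by
            rintro a ⟨ha, ha'⟩
            exact ⟨inv_mem ha, N.neg_mem ha'⟩ }
      have hTn : ∀ x ∈ S, ∀ t ∈ T, x * t * x⁻¹ ∈ T := by
        rintro x hx t ⟨ht, ht'⟩
        exact ⟨h.nrm x (h.SH hx) t ht, hN ⟨x, h.SH hx⟩ (mem_subgroupOf.2 hx) _ ht'⟩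
      have hTne : T ≠ ⊥ := by
        intro h1
        apply h0
        rw [eq_bot_iff]
        intro m hm
        have h2 : ((Additive.toMul m : U) : G) ∈ T := ⟨(Additive.toMul m).2, hm⟩
        rw [h1, mem_bot] at h2
        rw [AddSubgroup.mem_bot]
        exact ext' h2
      have hzT : z ∈ T := by
        refine h.core T (fun t ht => ht.1) (fun s hs => ?_) hTne
        rw [mem_normalizer_iff]
        intro t
        refine ⟨hTn s hs t, fun ht => ?_⟩
        have h2 := hTn s⁻¹ (inv_mem hs) _ ht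
        have e : s⁻¹ * (s * t * s⁻¹) * s⁻¹⁻¹ = t := by group
        rwa [e] at h2
      obtain ⟨h1, h2⟩ := hzT
      exact h2
    · intro i s hs t ht
      obtain ⟨x, hx, hxQ, hT⟩ := h.tr i
      have hsz := z_iff s hs
      -- `s t s⁻¹ t⁻¹` acts as `s x s⁻¹ x⁻¹ ∈ Q`
      have hq : (s : G) * x * (s : G)⁻¹ * x⁻¹ ∈ Q := mul_mem (h.Qn s s.2 hsz x hxQ) (inv_mem hxQ)
      obtain ⟨n, hn⟩ := h.QP _ hq
      refine ⟨n, fun u => ?_⟩
      have hx' := tv i ⟨c i, h.cU i⟩ x hx hT
      have e1 : ∀ u : Additive U, t • u = (⟨x, hx⟩ : H) • u := fun u => by rw [ht u, hx' u]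
      have e2 : ∀ u : Additive U, t⁻¹ • u = (⟨x, hx⟩ : H)⁻¹ • u := by
        intro u
        rw [inv_smul_eq_iff, e1, smul_inv_smul]
      have e3 : ∀ u : Additive U, (s * t * s⁻¹ * t⁻¹) • u = (s * ⟨x, hx⟩ * s⁻¹ * (⟨x, hx⟩ : H)⁻¹) • u := by
        intro u
        simp only [mul_smul]
        rw [e2, e1]
      have e4 : ∀ (m : ℕ) (u : Additive U), ((s * t * s⁻¹ * t⁻¹) ^ m) • u =
          ((s * ⟨x, hx⟩ * s⁻¹ * (⟨x, hx⟩ : H)⁻¹) ^ m) • u := by
        intro m
        induction m with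
        | zero => intro u; rw [pow_zero, pow_zero]
        | succ m ih =>
          intro u
          rw [pow_succ, pow_succ, mul_smul ((s * t * s⁻¹ * t⁻¹) ^ m),
            mul_smul ((s * ⟨x, hx⟩ * s⁻¹ * (⟨x, hx⟩ : H)⁻¹) ^ m), e3, ih]
      rw [e4]
      have e5 : ((s * ⟨x, hx⟩ * s⁻¹ * (⟨x, hx⟩ : H)⁻¹) ^ (2 ^ n) : H) = 1 := by
        apply Subtype.ext
        rw [SubmonoidClass.coe_pow]
        exact hn
      rw [e5, one_smul]
    · intro s hs w hw
      exact h.Wn s s.2 (z_iff s hs) _ hw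
    · intro i w hw
      exact h.Wφ i _ hw
  have : Nonempty (Fin k) := ⟨⟨0, hk⟩⟩
  have h1 := E.fixed ⟨x, hx⟩ hxW
  exact congrArg Subtype.val (congrArg Additive.toMul h1)

end GData

end Cfsg.Agent.Omega.NOThreeL.ATwo
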