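import Cfsg.Agent.Omega.IId.Line
import Cfsg.Agent.Omega.NOThreeL.ATwo.Core

/-!
# NO-3L A2, `q = 2` (text #14933 (1)–(3), helper850)

`M : NatK F S P (zl S P) ⊥ k`, `V = zl S P`, `|F| = 2`, `z` the element of `V` with coordinates `![1, 0]`; `U ≤ S`
elementary abelian, normalised by `C_G(z)`, induces all upper unitriangular elements of `SL₂(F)^k` on `V`; every
nontrivial `S`-invariant subgroup of `U` contains `z`.

* `Cfg.inf_eq` : `U ∩ U^w = 1` for `w ∈ P` with `z^w` opposite to `z`;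
* `Cfg.co` : the pair `U`, `U^w` over `C_G(V)`;
* `Cfg.val` : for `y ∈ C_U(V)` with `pi (u i) y = y` (`u i ∈ U` moves only the `i`-th factor) and every `u ∈ U`
  acting as `up b` : `pi u y = y` if `b i = 1` and `pi u y = 1` if `b i = 0`;
* `Cfg.prod` : every `y ∈ C_U(V)` is the product of its components `pi (u i) y`.
-/

set_option autoImplicit false
set_option Elab.async false

namespace Cfsg.Agent.Omega.NOThreeL.ATwo

open Subgroup Cfsg Cfsg.Agent.ZN Cfsg.Agent.ZN.ChoiceBase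
open Cfsg.Agent.Omega.MinPar Cfsg.Agent.Omega.FFThm
open Cfsg.Agent.MinSimple.VModule (le_normalizer_zl)
open Cfsg.Agent.Lib.SL2Mat
open Cfsg.Agent.Omega.NatPair (ap ap_mul ap_one ap_inv_ap ap_ap_inv exists_ap ap_add)
open Cfsg.Agent.Omega.IId (Ind cj_mem cj_mem' e_inj acts_mul acts_inv acts_one sg sg_spec e_one e_inv)

universe u

variable {G : Type u} [Group G] {F : Type} [Field F] {S P : Subgroup G} {k : ℕ}

structure Cfg (M : NatK F S P (zl S P) ⊥ k) (z : G) (U : Subgroup G) : Prop where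
  two : ∀ x : F, x = 0 ∨ x = 1
  pos : 0 < k
  SP : S ≤ P
  zV : z ∈ zl S P
  ez : ∀ i, M.e z i = ![1, 0]
  ind : Ind M U Set.univ
  UP : U ≤ P
  cent : ∀ g, g * z = z * g → g ∈ normalizer (U : Set G)
  ab : ∀ u ∈ U, ∀ v ∈ U, u * v = v * u
  sq : ∀ u ∈ U, u * u = 1
  core : ∀ T : Subgroup G, T ≤ U → S ≤ normalizer (T : Set G) → T ≠ ⊥ → z ∈ T

section mat

variable [CharP F 2]

theorem wm_up (c : F) : wm (1 : F) one_ne_zero * up c * (wm (1 : F) one_ne_zero)⁻¹ = lo c := by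
  have h2 : (-1 : F) = 1 := CharTwo.neg_eq 1
  rw [ent_inv]
  refine ext_ent ?_ ?_ ?_ ?_ <;> simp only [ent_mul, wm_00, wm_01, wm_10, wm_11, up_00, up_01, up_10, up_11,
    lo_00, lo_01, lo_10, lo_11, mk_00, mk_01, mk_10, mk_11, inv_one, h2] <;> ring_nf
  all_goals simp [h2]

theorem rho_up (c : F) : up (1 : F) * lo (1 : F) * up c * (up (1 : F) * lo (1 : F))⁻¹ = lo c := by
  have h2 : (1 : F) + 1 = 0 := CharTwo.add_self_eq_zero 1
  rw [ent_inv]
  refine ext_ent ?_ ?_ ?_ ?_ <;> simp only [ent_mul, up_00, up_01, up_10, up_11,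
    lo_00, lo_01, lo_10, lo_11, mk_00, mk_01, mk_10, mk_11]
  · linear_combination (-(c : F)) * h2
  · linear_combination (2 * c : F) * h2
  · linear_combination (-(c : F)) * h2
  · linear_combination (c : F) * h2

end mat

variable {M : NatK F S P (zl S P) ⊥ k}

theorem mem_cent_of_acts {g : G} (hg : g ∈ P) (h : ActsSL M.e (zl S P) ⊥ g 1) :
    g ∈ centralizer (zl S P : Set G) := by
  rw [mem_centralizer_iff]
  intro v hv
  have h1 : g * v * g⁻¹ = v := by
    refine e_inj M (cj_mem hg hv) hv (funext fun i => ?_)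
    rw [h.1 v hv i, Pi.one_apply, ap_one]
  calc v * g = g * v * g⁻¹ * g := by rw [h1]
    _ = g * v := by group

theorem acts_conj {g h : G} (hg : g ∈ P) (hh : h ∈ P) {A B : Fin k → Matrix.SpecialLinearGroup (Fin 2) F}
    (h1 : ActsSL M.e (zl S P) ⊥ g A) (h2 : ActsSL M.e (zl S P) ⊥ h B) :
    ActsSL M.e (zl S P) ⊥ (g * h * g⁻¹) (A * B * A⁻¹) :=
  acts_mul (inv_mem hg) (acts_mul hh h1 h2) (acts_inv hg h1)

/-- Elements acting in the same way. -/
theorem mem_cent_of_eq {g h : G} (hg : g ∈ P) (hh : h ∈ P) {A : Fin k → Matrix.SpecialLinearGroup (Fin 2) F}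
    (h1 : ActsSL M.e (zl S P) ⊥ g A) (h2 : ActsSL M.e (zl S P) ⊥ h A) :
    g * h⁻¹ ∈ centralizer (zl S P : Set G) := by
  refine mem_cent_of_acts (M := M) (mul_mem hg (inv_mem hh)) ?_
  have h3 := acts_mul (inv_mem hh) h1 (acts_inv hh h2)
  rwa [mul_inv_cancel] at h3

/-- The cyclic permutation of the three lines is transitive on the pairs. -/
theorem acts_eq (M : NatK F S P (zl S P) ⊥ k) {g h v w : G} (hg : g ∈ P) (hh : h ∈ P) (hv : v ∈ zl S P) (hw : w ∈ zl S P)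
    {A B : Fin k → Matrix.SpecialLinearGroup (Fin 2) F}
    (h1 : ActsSL M.e (zl S P) ⊥ g A) (h2 : ActsSL M.e (zl S P) ⊥ h B)
    (he : ∀ i, ap (A i) (M.e v i) = ap (B i) (M.e w i)) : g * v * g⁻¹ = h * w * h⁻¹ := by
  refine e_inj M (cj_mem hg hv) (cj_mem hh hw) (funext fun i => ?_)
  rw [h1.1 v hv i, h2.1 w hw i, he i]

namespace Cfg

variable {z : G} {U : Subgroup G} (h : Cfg M z U)
include h

/-- `C_G(V) ≤ N_G(U^g)` for `g ∈ P`. -/
theorem cent_conj {g d x : G} (hg : g ∈ P) (hd : d ∈ centralizer (zl S P : Set G)) (hx : x ∈ cj g U) :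
    d * x * d⁻¹ ∈ cj g U := by
  rw [mem_cj] at hx ⊢
  have h1 : g⁻¹ * d * g * z = z * (g⁻¹ * d * g) := by
    have h2 := mem_centralizer_iff.1 hd _ (cj_mem hg h.zV)
    calc g⁻¹ * d * g * z = g⁻¹ * (d * (g * z * g⁻¹)) * g := by group
      _ = g⁻¹ * ((g * z * g⁻¹) * d) * g := by rw [h2]
      _ = z * (g⁻¹ * d * g) := by group
  have h3 := (mem_normalizer_iff.1 (h.cent _ h1) _).1 hx
  have e : g⁻¹ * (d * x * d⁻¹) * g = g⁻¹ * d * g * (g⁻¹ * x * g) * (g⁻¹ * d * g)⁻¹ := by group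
  rwa [e]

omit h in
theorem cent_norm {g d : G} (hg : g ∈ P) (hd : d ∈ centralizer (zl S P : Set G)) :
    g * d * g⁻¹ ∈ centralizer (zl S P : Set G) := by
  rw [mem_centralizer_iff] at hd ⊢
  intro v hv
  have h1 := hd _ (cj_mem' hg hv)
  calc v * (g * d * g⁻¹) = g * ((g⁻¹ * v * g) * d) * g⁻¹ := by group
    _ = g * (d * (g⁻¹ * v * g)) * g⁻¹ := by rw [h1]
    _ = g * d * g⁻¹ * v := by group

theorem cj_congr {g x : G} (he : g * z * g⁻¹ = x * z * x⁻¹) : cj g U = cj x U := by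
  have h1 : x⁻¹ * g * z = z * (x⁻¹ * g) := by
    calc x⁻¹ * g * z = x⁻¹ * (g * z * g⁻¹) * g := by group
      _ = x⁻¹ * (x * z * x⁻¹) * g := by rw [he]
      _ = z * (x⁻¹ * g) := by group
  have h2 := cj_eq_of_mem_normalizer (h.cent _ h1)
  rw [← cj_cj] at h2
  have h3 := congrArg (cj x) h2
  rwa [cj_cj_inv] at h3

variable [CharP F 2]

theorem exists_up (b : Fin k → F) : ∃ u ∈ U, ActsSL M.e (zl S P) ⊥ u fun i => up (b i) :=
  h.ind.ex b fun _ hi => (hi (Set.mem_univ _)).elim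

theorem exists_b {u : G} (hu : u ∈ U) : ∃ b : Fin k → F, ActsSL M.e (zl S P) ⊥ u fun i => up (b i) := by
  obtain ⟨b, -, hb⟩ := h.ind.act u hu
  exact ⟨b, hb⟩

/-- Every `P`-conjugate of `z` is conjugate to `z` under `⟨U, U^w⟩`. -/
theorem exists_x {w g : G} (hw : w ∈ P)
    (hwA : ActsSL M.e (zl S P) ⊥ w fun _ => wm (1 : F) one_ne_zero) (hg : g ∈ P) :
    ∃ u ∈ U, ∃ v ∈ U, g * z * g⁻¹ = (u * (w * v * w⁻¹)) * z * (u * (w * v * w⁻¹))⁻¹ := by
  obtain ⟨v, hv, hvA⟩ := h.exists_up fun i => M.e (g * z * g⁻¹) i 1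
  obtain ⟨u, hu, huA⟩ := h.exists_up fun i => 1 + M.e (g * z * g⁻¹) i 0
  refine ⟨u, hu, v, hv, ?_⟩
  have h1 := acts_conj hw (h.UP hv) hwA hvA
  have h2 := acts_mul (mul_mem (mul_mem hw (h.UP hv)) (inv_mem hw)) huA h1
  have hx : u * (w * v * w⁻¹) ∈ P := mul_mem (h.UP hu) (mul_mem (mul_mem hw (h.UP hv)) (inv_mem hw))
  refine e_inj M (cj_mem hg h.zV) (cj_mem hx h.zV) (funext fun i => ?_)
  rw [h2.1 z h.zV i, h.ez i, Pi.mul_apply, Pi.mul_apply, Pi.mul_apply, Pi.inv_apply, wm_up]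
  have hne : M.e (g * z * g⁻¹) i ≠ 0 := by
    obtain ⟨j, rfl⟩ := (sg M hg).surjective i
    intro h0
    have h3 := (sg_spec M hg h.zV j).1 h0
    rw [h.ez j] at h3
    have := congrFun h3 0
    simp at this
  set x := M.e (g * z * g⁻¹) i with hx'
  have h22 : (1 : F) + 1 = 0 := CharTwo.add_self_eq_zero 1
  rw [ap_mul]
  apply NatPair.ext2
  · rw [NatPair.ap_zero', NatPair.ap_zero', NatPair.ap_one']
    simp only [up_00, up_01, lo_00, lo_01, lo_10, lo_11, Matrix.cons_val_zero, Matrix.cons_val_one]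
    rcases h.two (x 1) with h1 | h1 <;> rcases h.two (x 0) with h0 | h0
    · exact absurd (NatPair.ext2 h0 h1) hne
    · rw [h0, h1]; ring
    · rw [h0, h1]; linear_combination -h22
    · rw [h0, h1]; linear_combination -h22
  · rw [NatPair.ap_one', NatPair.ap_zero', NatPair.ap_one']
    simp only [up_10, up_11, lo_00, lo_01, lo_10, lo_11, Matrix.cons_val_zero, Matrix.cons_val_one]
    ring

/-- **(1)** `U ∩ U^w = 1`. -/
theorem inf_eq {w : G} (hw : w ∈ P) (hwA : ActsSL M.e (zl S P) ⊥ w fun _ => wm (1 : F) one_ne_zero) :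
    U ⊓ cj w U = ⊥ := by
  -- `T ≤ U^g` for all `g ∈ P`
  have key : ∀ g ∈ P, U ⊓ cj w U ≤ cj g U := by
    intro g hg t ht
    rw [mem_inf] at ht
    obtain ⟨u, hu, v, hv, he⟩ := h.exists_x hw hwA hg
    rw [h.cj_congr he, mem_cj]
    have ht2 := mem_cj.1 ht.2
    have e1 : (u * (w * v * w⁻¹))⁻¹ * t * (u * (w * v * w⁻¹)) = t := by
      have h1 := h.ab u hu t ht.1
      have h2 := h.ab v hv _ ht2
      calc (u * (w * v * w⁻¹))⁻¹ * t * (u * (w * v * w⁻¹))
          = w * v⁻¹ * w⁻¹ * u⁻¹ * (t * u) * (w * v * w⁻¹) := by group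
        _ = w * v⁻¹ * w⁻¹ * u⁻¹ * (u * t) * (w * v * w⁻¹) := by rw [h1]
        _ = w * v⁻¹ * ((w⁻¹ * t * w) * v) * w⁻¹ := by group
        _ = w * v⁻¹ * (v * (w⁻¹ * t * w)) * w⁻¹ := by rw [h2]
        _ = t := by group
    rw [e1]
    exact ht.1
  by_contra hne
  have hS : S ≤ normalizer ((U ⊓ cj w U : Subgroup G) : Set G) := by
    have k1 : ∀ s ∈ S, ∀ t ∈ U ⊓ cj w U, s * t * s⁻¹ ∈ U ⊓ cj w U := by
      intro s hs t ht
      rw [mem_inf]
      constructor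
      · have h1 := key s⁻¹ (inv_mem (h.SP hs)) ht
        rw [mem_cj, inv_inv] at h1
        exact h1
      · have h1 := key (s⁻¹ * w) (mul_mem (inv_mem (h.SP hs)) hw) ht
        rw [mem_cj] at h1 ⊢
        have e : w⁻¹ * (s * t * s⁻¹) * w = (s⁻¹ * w)⁻¹ * t * (s⁻¹ * w) := by group
        rwa [e]
    intro s hs
    rw [mem_normalizer_iff]
    intro t
    refine ⟨k1 s hs t, fun ht => ?_⟩
    have h1 := k1 s⁻¹ (inv_mem hs) _ ht
    have e : s⁻¹ * (s * t * s⁻¹) * s⁻¹⁻¹ = t := by group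
    rwa [e] at h1
  have hz := (mem_inf.1 (h.core _ inf_le_left hS hne)).2
  rw [mem_cj] at hz
  obtain ⟨v, hv, hvA⟩ := h.exists_up fun _ => 1
  have h1 := acts_conj hw (h.UP hv) hwA hvA
  have h2 := h.ab v hv _ hz
  have h3 : w * v * w⁻¹ * z * (w * v * w⁻¹)⁻¹ = z := by
    calc w * v * w⁻¹ * z * (w * v * w⁻¹)⁻¹ = w * (v * (w⁻¹ * z * w)) * v⁻¹ * w⁻¹ := by group
      _ = w * ((w⁻¹ * z * w) * v) * v⁻¹ * w⁻¹ := by rw [h2]
      _ = z := by group
  have i0 : Fin k := ⟨0, h.pos⟩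
  have h4 := h1.1 z h.zV i0
  rw [h3, h.ez i0, Pi.mul_apply, Pi.mul_apply, Pi.inv_apply, wm_up] at h4
  have h5 := congrFun h4 1
  rw [NatPair.ap_one'] at h5
  simp at h5

/-- The pair `U`, `U^w`. -/
theorem exists_co : ∃ (a b : G) (U' : Subgroup G), Co U U' (centralizer (zl S P : Set G)) a b ∧ a ∈ P ∧ b ∈ P ∧
    U' ≤ P ∧
    (ActsSL M.e (zl S P) ⊥ a fun _ => up 1) ∧ (ActsSL M.e (zl S P) ⊥ b fun _ => lo 1) := by
  obtain ⟨w, hw, hwA⟩ := M.lift fun _ => wm (1 : F) one_ne_zero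
  obtain ⟨a, ha, haA⟩ := h.exists_up fun _ => 1
  have hb : w * a * w⁻¹ ∈ P := mul_mem (mul_mem hw (h.UP ha)) (inv_mem hw)
  have hbA : ActsSL M.e (zl S P) ⊥ (w * a * w⁻¹) fun _ => lo 1 := by
    have h1 := acts_conj hw (h.UP ha) hwA haA
    have h2 : ((fun _ => wm (1 : F) one_ne_zero) * (fun _ => up 1) * (fun _ => wm (1 : F) one_ne_zero)⁻¹ :
        Fin k → Matrix.SpecialLinearGroup (Fin 2) F) = fun _ => lo 1 := by
      funext i
      rw [Pi.mul_apply, Pi.mul_apply, Pi.inv_apply, wm_up]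
    rwa [h2] at h1
  have hU'P : cj w U ≤ P := by
    intro x hx
    rw [mem_cj] at hx
    have e : x = w * (w⁻¹ * x * w) * w⁻¹ := by group
    rw [e]
    exact mul_mem (mul_mem hw (h.UP hx)) (inv_mem hw)
  have hρ : cj (a * (w * a * w⁻¹)) U = cj w U := by
    refine h.cj_congr (acts_eq M (mul_mem (h.UP ha) hb) hw h.zV h.zV (acts_mul hb haA hbA) hwA fun i => ?_)
    rw [Pi.mul_apply, h.ez i]
    have h22 : (1 : F) + 1 = 0 := CharTwo.add_self_eq_zero 1
    have h2 : (-1 : F) = 1 := CharTwo.neg_eq 1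
    apply NatPair.ext2
    · rw [NatPair.ap_zero', NatPair.ap_zero', ent_mul, ent_mul]
      simp [h22]
    · rw [NatPair.ap_one', NatPair.ap_one', ent_mul, ent_mul]
      simp [h2]
  refine ⟨a, w * a * w⁻¹, cj w U, ?_, h.UP ha, hb, hU'P, haA, hbA⟩
  exact
    { aU := ha
      bU := by
        rw [mem_cj]
        have e : w⁻¹ * (w * a * w⁻¹) * w = a := by group
        rwa [e]
      ab := h.ab
      ab' := by
        intro u hu v hv
        rw [mem_cj] at hu hv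
        have h1 := h.ab _ hu _ hv
        calc u * v = w * ((w⁻¹ * u * w) * (w⁻¹ * v * w)) * w⁻¹ := by group
          _ = w * ((w⁻¹ * v * w) * (w⁻¹ * u * w)) * w⁻¹ := by rw [h1]
          _ = v * u := by group
      sq := h.sq
      inf := by
        intro x hx hx'
        have h1 : x ∈ U ⊓ cj w U := ⟨hx, hx'⟩
        rwa [h.inf_eq hw hwA, mem_bot] at h1
      DU := by
        intro d hd u hu
        have h1 := h.cent_conj (one_mem P) hd (x := u) (by rwa [cj_one])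
        rwa [cj_one] at h1
      DU' := fun d hd u hu => h.cent_conj hw hd hu
      UD := fun u hu d hd => cent_norm (h.UP hu) hd
      UD' := fun u hu d hd => cent_norm (hU'P hu) hd
      rho := by
        intro u hu
        rw [← hρ, mem_cj]
        have e : (a * (w * a * w⁻¹))⁻¹ * (a * (w * a * w⁻¹) * u * (a * (w * a * w⁻¹))⁻¹) *
          (a * (w * a * w⁻¹)) = u := by group
        rwa [e] }

end Cfg

end Cfsg.Agent.Omega.NOThreeL.ATwo
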